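import Cfsg.Agent.SporRec.NineTwo.Lifts

/-!
# The elementary abelian group of order 27 of `2.A_9`, `2.A_10`
-/

set_option autoImplicit false
set_option linter.unusedSectionVars false

namespace Cfsg.Agent.SporRec.NineTwo.Three

open Subgroup Equiv Cfsg.Agent.SporRec.TwoAn Cfsg.Agent.SporRec.NineTwo.Perms Cfsg.Agent.SporRec.NineTwo.Lifts

/-- `a^i b^j c^k` -/
def el {G : Type*} [Group G] (a b c : G) (i j k : Fin 3) : G := a ^ (i : ℕ) * b ^ (j : ℕ) * c ^ (k : ℕ)

section abstr

variable {G : Type*} [Group G] {a b c : G} (hab : a * b = b * a) (hac : a * c = c * a) (hbc : b * c = c * b)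
  (ha : a ^ 3 = 1) (hb : b ^ 3 = 1) (hc : c ^ 3 = 1)

theorem pow_add_fin {x : G} (hx : x ^ 3 = 1) (i j : Fin 3) : x ^ ((i + j : Fin 3) : ℕ) = x ^ (i : ℕ) * x ^ (j : ℕ) := by
  rw [Fin.val_add, ← pow_add]
  conv_rhs => rw [← Nat.mod_add_div (i.val + j.val) 3, pow_add, pow_mul, hx, one_pow, mul_one]

include hab hac hbc ha hb hc

theorem el_mul (i j k i' j' k' : Fin 3) : el a b c i j k * el a b c i' j' k' = el a b c (i + i') (j + j') (k + k') := by
  unfold el
  rw [pow_add_fin ha, pow_add_fin hb, pow_add_fin hc]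
  have c1 : Commute a b := hab
  have c2 : Commute a c := hac
  have c3 : Commute b c := hbc
  have e1 : c ^ (k : ℕ) * a ^ (i' : ℕ) = a ^ (i' : ℕ) * c ^ (k : ℕ) := (c2.symm.pow_pow _ _).eq
  have e2 : b ^ (j : ℕ) * a ^ (i' : ℕ) = a ^ (i' : ℕ) * b ^ (j : ℕ) := (c1.symm.pow_pow _ _).eq
  have e3 : c ^ (k : ℕ) * b ^ (j' : ℕ) = b ^ (j' : ℕ) * c ^ (k : ℕ) := (c3.symm.pow_pow _ _).eq
  calc a ^ (i : ℕ) * b ^ (j : ℕ) * c ^ (k : ℕ) * (a ^ (i' : ℕ) * b ^ (j' : ℕ) * c ^ (k' : ℕ))
      = a ^ (i : ℕ) * b ^ (j : ℕ) * (c ^ (k : ℕ) * a ^ (i' : ℕ)) * b ^ (j' : ℕ) * c ^ (k' : ℕ) := by group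
    _ = a ^ (i : ℕ) * (b ^ (j : ℕ) * a ^ (i' : ℕ)) * (c ^ (k : ℕ) * b ^ (j' : ℕ)) * c ^ (k' : ℕ) := by
        rw [e1]; group
    _ = _ := by rw [e2, e3]; group

theorem el_inv (i j k : Fin 3) : (el a b c i j k)⁻¹ = el a b c (-i) (-j) (-k) := by
  rw [inv_eq_iff_mul_eq_one, el_mul hab hac hbc ha hb hc]
  simp [el]

/-- the elementary abelian group `⟨a, b, c⟩` -/
def triple : Subgroup G where
  carrier := {x | ∃ i j k : Fin 3, x = el a b c i j k}
  mul_mem' := by
    rintro x y ⟨i, j, k, rfl⟩ ⟨i', j', k', rfl⟩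
    exact ⟨_, _, _, el_mul hab hac hbc ha hb hc _ _ _ _ _ _⟩
  one_mem' := ⟨0, 0, 0, by simp [el]⟩
  inv_mem' := by
    rintro x ⟨i, j, k, rfl⟩
    exact ⟨_, _, _, el_inv hab hac hbc ha hb hc _ _ _⟩

theorem el_pow (i j k : Fin 3) : el a b c i j k ^ 3 = 1 := by
  rw [pow_succ, pow_two, el_mul hab hac hbc ha hb hc, el_mul hab hac hbc ha hb hc]
  have : ∀ i : Fin 3, i + i + i = 0 := by decide
  rw [this, this, this]
  simp [el]

end abstr

variable {m : ℕ} (hm : m < 2) {C : Type*} [Group C] {K : Cover (Fin (m + 9)) C} {a b c u g : C} (H : Lift K a b c u g)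

include hm H

omit hm in
theorem π_el (i j k : Fin 3) : K.π (el a b c i j k) = pw m i j k := by
  rw [el, map_mul, map_mul, map_pow, map_pow, map_pow, H.πa, H.πb, H.πc, pw]

omit H in
/-- An involution `≠ z` moves exactly eight points. -/
theorem card_eight {s : C} (hs : s * s = 1) (hs1 : s ≠ 1) (hsz : s ≠ K.z) : (K.π s).support.card = 8 := by
  obtain ⟨-, k, hk⟩ := K.sq_eq_one_iff.1 hs
  have h1 : (K.π s).support.card ≤ m + 9 := by
    refine (Finset.card_le_univ _).trans ?_
    rw [Fintype.card_fin]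
  have h2 : (K.π s).support.card ≠ 0 := by
    intro h
    rw [Finset.card_eq_zero, Perm.support_eq_empty_iff] at h
    rcases (K.ker s).1 h with h | h
    · exact hs1 h
    · exact hsz h
  omega

omit H in
/-- A permutation moving eight points and commuting with an element of order 3 has no fixed point on its support. -/
theorem ne_of_moved {σ P : Perm (Fin (m + 9))} (hσ : σ.support.card = 8) (h : σ * P = P * σ) (hP : P ^ 3 = 1)
    {x : Fin (m + 9)} (hx : P x ≠ x) : σ x ≠ x := by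
  intro hfix
  have h1 : σ (P x) = P x := by rw [apply_comm h, hfix]
  have h2 : σ (P (P x)) = P (P x) := by rw [apply_comm h, h1]
  have hne : P (P x) ≠ x := by
    intro h3
    apply hx
    have h4 : (P ^ 3) x = x := by rw [hP]; rfl
    rw [pow_succ, pow_two] at h4
    simp only [Perm.mul_apply] at h4
    rw [h3] at h4
    exact h4
  have h3 : ({x, P x, P (P x)} : Finset (Fin (m + 9))) ⊆ σ.supportᶜ := by
    intro y hy
    rw [Finset.mem_compl, Perm.notMem_support]
    simp only [Finset.mem_insert, Finset.mem_singleton] at hy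
    rcases hy with rfl | rfl | rfl
    · exact hfix
    · exact h1
    · exact h2
  have h4 := Finset.card_le_card h3
  have h5 : ({x, P x, P (P x)} : Finset (Fin (m + 9))).card = 3 := by
    rw [Finset.card_insert_of_notMem, Finset.card_pair]
    · intro h; exact hx (P.injective h).symm
    · rw [Finset.mem_insert, Finset.mem_singleton]
      rintro (h | h)
      · exact hx h.symm
      · exact hne h.symm
  rw [h5, Finset.card_compl, Fintype.card_fin, hσ] at h4
  omega

omit H in
theorem weight_one_reach : ∀ i j k : Fin 3,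
    ((if i = 0 then 0 else 1) + (if j = 0 then 0 else 1) + (if k = 0 then 0 else 1) = 1) →
    ∃ x, pw m i j k x ≠ x ∧ ∀ y, pw m i j k y ≠ y → ∃ e : Fin 3, y = (pw m i j k ^ (e : ℕ)) x := by
  interval_cases m <;> decide +kernel

omit H in
theorem pw_pow : ∀ i j k : Fin 3, pw m i j k ^ 3 = 1 := by interval_cases m <;> decide +kernel

/-- An element `a^i b^j c^k` commuting with an involution `≠ z` has exactly two non-zero exponents. -/
theorem weight_two {s : C} (hs : s * s = 1) (hs1 : s ≠ 1) (hsz : s ≠ K.z) {i j k : Fin 3}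
    (hc : s * el a b c i j k = el a b c i j k * s) (hne : el a b c i j k ≠ 1) :
    (i = 0 ∧ j ≠ 0 ∧ k ≠ 0) ∨ (i ≠ 0 ∧ j = 0 ∧ k ≠ 0) ∨ (i ≠ 0 ∧ j ≠ 0 ∧ k = 0) := by
  have h8 := card_eight hm hs hs1 hsz
  have hσσ : K.π s * K.π s = 1 := by rw [← map_mul, hs, map_one]
  have hcomm : K.π s * pw m i j k = pw m i j k * K.π s := by
    have := congrArg K.π hc
    simpa only [map_mul, π_el H] using this
  have hmv : ∀ x, pw m i j k x ≠ x → K.π s x ≠ x := fun x hx => ne_of_moved hm h8 hcomm (pw_pow hm i j k) hx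
  set σ := K.π s with hσ
  -- weight one
  have hw1 : ¬ ((if i = 0 then 0 else 1) + (if j = 0 then 0 else 1) + (if k = 0 then 0 else 1) = 1) := by
    intro hw
    obtain ⟨x, hx, hy⟩ := weight_one_reach hm i j k hw
    obtain ⟨e, he⟩ := hy (σ x) (fun h => hx ((moved_iff hcomm x).1 h))
    apply hmv x hx
    have h1 : σ (σ x) = x := by
      have := congrArg (fun f : Perm (Fin (m + 9)) => f x) hσσ
      simpa only [Perm.mul_apply, Perm.one_apply] using this
    have h2 : σ ((pw m i j k ^ (e : ℕ)) x) = (pw m i j k ^ (e : ℕ)) (σ x) :=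
      apply_comm ((show Commute σ (pw m i j k) from hcomm).pow_right _) x
    have h3 : (pw m i j k ^ (2 * (e : ℕ))) x = x := by
      rw [two_mul, pow_add, Perm.mul_apply, ← he, ← h2, ← he, h1]
    have h4 : (pw m i j k ^ (4 * (e : ℕ))) x = x := by
      have : 4 * (e : ℕ) = 2 * (e : ℕ) + 2 * (e : ℕ) := by ring
      rw [this, pow_add, Perm.mul_apply, h3, h3]
    have h5 : pw m i j k ^ (4 * (e : ℕ)) = pw m i j k ^ (e : ℕ) := by
      have : 4 * (e : ℕ) = 3 * (e : ℕ) + (e : ℕ) := by ring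
      rw [this, pow_add, pow_mul, pw_pow hm, one_pow, one_mul]
    rw [h5] at h4
    rw [he, h4]
  -- weight three
  have hw3 : ¬ ((if i = 0 then 0 else 1) + (if j = 0 then 0 else 1) + (if k = 0 then 0 else 1) = 3) := by
    intro hw
    have h1 := pw_card hm i j k
    rw [hw] at h1
    have h2 : (pw m i j k).support ⊆ σ.support := by
      intro x hx
      rw [Perm.mem_support] at hx ⊢
      exact hmv x hx
    have h3 := Finset.card_le_card h2
    omega
  -- weight zero
  have hw0 : ¬ (i = 0 ∧ j = 0 ∧ k = 0) := by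
    rintro ⟨rfl, rfl, rfl⟩
    exact hne (by simp [el])
  clear * - hw0 hw1 hw3
  revert i j k
  decide

/-- the only involution of `C` commuting with `ab` and `a^s c^k` (`s, k ≠ 0`) is `z` -/
theorem eq_z_of_comm {v : C} (hv : v * v = 1) (hv1 : v ≠ 1) {s k : Fin 3} (hs : s ≠ 0) (hk : k ≠ 0)
    (h1 : v * (a * b) = a * b * v) (h2 : v * el a b c s 0 k = el a b c s 0 k * v) : v = K.z := by
  have p1 : K.π v * (pa m * pb m) = pa m * pb m * K.π v := by
    have := congrArg K.π h1
    simpa only [map_mul, H.πa, H.πb] using this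
  have p2 : K.π v * pw m s 0 k = pw m s 0 k * K.π v := by
    have := congrArg K.π h2
    simpa only [map_mul, π_el H] using this
  obtain ⟨i, j, l, h⟩ := exists_pw hm hs hk p1 p2
  have h3 : pw m i j l = 1 := pw_sq_ne hm i j l (by rw [← h, ← map_mul, hv, map_one])
  rw [h3] at h
  rcases (K.ker v).1 h with h | h
  · exact absurd h hv1
  · exact h

omit H in
theorem pt_conj : ∀ s k : Fin 3, pt m * (pa m * pb m) * (pt m)⁻¹ = (pa m * pb m)⁻¹ ∧
    pt m * pw m s 0 k * (pt m)⁻¹ = (pw m s 0 k)⁻¹ := by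
  interval_cases m <;> decide +kernel

/-- no element of `C` inverts `ab` and `a^s c^k` -/
theorem not_inverts {v : C} {s k : Fin 3} (hs : s ≠ 0) (hk : k ≠ 0)
    (h1 : v * (a * b) * v⁻¹ = (a * b)⁻¹) (h2 : v * el a b c s 0 k * v⁻¹ = (el a b c s 0 k)⁻¹) : False := by
  have p1 : K.π v * (pa m * pb m) * (K.π v)⁻¹ = (pa m * pb m)⁻¹ := by
    have := congrArg K.π h1
    simpa only [map_mul, map_inv, H.πa, H.πb] using this
  have p2 : K.π v * pw m s 0 k * (K.π v)⁻¹ = (pw m s 0 k)⁻¹ := by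
    have := congrArg K.π h2
    simpa only [map_mul, map_inv, π_el H] using this
  have q := pt_conj hm s k
  set σ := K.π v with hσ
  have key : ∀ P : Perm (Fin (m + 9)), σ * P * σ⁻¹ = P⁻¹ → pt m * P * (pt m)⁻¹ = P⁻¹ →
      (pt m)⁻¹ * σ * P = P * ((pt m)⁻¹ * σ) := by
    intro P e1 e2
    rw [mul_inv_eq_iff_eq_mul] at e1 e2
    calc (pt m)⁻¹ * σ * P = (pt m)⁻¹ * (σ * P) := by group
      _ = (pt m)⁻¹ * (P⁻¹ * pt m) * (pt m)⁻¹ * σ := by rw [e1]; group
      _ = P * ((pt m)⁻¹ * σ) := by rw [← e2]; group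
  obtain ⟨i, j, l, h⟩ := exists_pw hm hs hk (key _ p1 q.1) (key _ p2 q.2)
  have h3 : σ = pt m * pw m i j l := by rw [← h, mul_inv_cancel_left]
  have h4 := Perm.mem_alternatingGroup.1 (K.mem_alternating v)
  rw [← hσ, h3, sign_pt_mul_pw hm] at h4
  exact absurd h4 (by decide)


omit H in
theorem norm_one : ∀ i j k i' j' k' : Fin 3,
    ((if i = 0 then 0 else 1) + (if j = 0 then 0 else 1) + (if k = 0 then 0 else 1) = 1) →
    ((if i' = 0 then 0 else 1) + (if j' = 0 then 0 else 1) + (if k' = 0 then 0 else 1) = 1) →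
    pw m i j k * pw m i' j' k' = pa m * pb m →
    (pw m i j k = pa m ∧ pw m i' j' k' = pb m) ∨ (pw m i j k = pb m ∧ pw m i' j' k' = pa m) := by
  interval_cases m <;> decide +kernel

omit H in
theorem norm_two : ∀ i j k : Fin 3, (pa m * pw m i j k).support.card = 6 → (pb m * pw m i j k).support.card = 6 →
    (pw m i j k).support.card = 3 → pw m i j k = pc m ∨ pw m i j k = (pc m)⁻¹ := by
  interval_cases m <;> decide +kernel

omit H in
theorem card_abc : (pa m).support.card = 3 ∧ (pb m).support.card = 3 ∧ (pc m).support.card = 3 ∧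
    (pa m * pc m).support.card = 6 ∧ (pb m * pc m).support.card = 6 ∧ pw m 1 0 1 = pa m * pc m := by
  interval_cases m <;> decide +kernel

/-- the square of an element of `C` normalising `⟨a, b, c⟩` and commuting with `ab` is in `⟨a, b, c, z⟩` -/
theorem sq_of_norm {v : C} (h1 : v * (a * b) = a * b * v) (hva : ∃ i j k : Fin 3, v * a * v⁻¹ = el a b c i j k)
    (hvb : ∃ i j k : Fin 3, v * b * v⁻¹ = el a b c i j k) (hvc : ∃ i j k : Fin 3, v * c * v⁻¹ = el a b c i j k) :
    ∃ i j k : Fin 3, v * v = el a b c i j k ∨ v * v = el a b c i j k * K.z := by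
  obtain ⟨i, j, k, ea⟩ := hva
  obtain ⟨i', j', k', eb⟩ := hvb
  obtain ⟨i'', j'', k'', ec⟩ := hvc
  set σ := K.π v with hσ
  have qa : σ * pa m * σ⁻¹ = pw m i j k := by
    have := congrArg K.π ea
    simpa only [map_mul, map_inv, H.πa, π_el H] using this
  have qb : σ * pb m * σ⁻¹ = pw m i' j' k' := by
    have := congrArg K.π eb
    simpa only [map_mul, map_inv, H.πb, π_el H] using this
  have qc : σ * pc m * σ⁻¹ = pw m i'' j'' k'' := by
    have := congrArg K.π ec
    simpa only [map_mul, map_inv, H.πc, π_el H] using this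
  have qab : σ * (pa m * pb m) * σ⁻¹ = pa m * pb m := by
    have := congrArg K.π h1
    rw [mul_inv_eq_iff_eq_mul]
    simpa only [map_mul, H.πa, H.πb] using this
  obtain ⟨ca, cb, cc, cac, cbc, e101⟩ := card_abc hm
  have hcard : ∀ P : Perm (Fin (m + 9)), (σ * P * σ⁻¹).support.card = P.support.card := fun P =>
    Perm.card_support_conj
  have wa : ((if i = 0 then 0 else 1) + (if j = 0 then 0 else 1) + (if k = 0 then 0 else 1) = 1) := by
    have := pw_card hm i j k
    rw [← qa, hcard, ca] at this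
    omega
  have wb : ((if i' = 0 then 0 else 1) + (if j' = 0 then 0 else 1) + (if k' = 0 then 0 else 1) = 1) := by
    have := pw_card hm i' j' k'
    rw [← qb, hcard, cb] at this
    omega
  have hsplit : ∀ P Q : Perm (Fin (m + 9)), σ * (P * Q) * σ⁻¹ = (σ * P * σ⁻¹) * (σ * Q * σ⁻¹) := fun P Q => by group
  have hprod : pw m i j k * pw m i' j' k' = pa m * pb m := by rw [← qa, ← qb, ← hsplit, qab]
  have h2 := norm_one hm i j k i' j' k' wa wb hprod
  have hc1 : (pw m i j k * pw m i'' j'' k'').support.card = 6 := by rw [← qa, ← qc, ← hsplit, hcard, cac]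
  have hc2 : (pw m i' j' k' * pw m i'' j'' k'').support.card = 6 := by rw [← qb, ← qc, ← hsplit, hcard, cbc]
  have hc3 : (pw m i'' j'' k'').support.card = 3 := by rw [← qc, hcard, cc]
  have h3 : pw m i'' j'' k'' = pc m ∨ pw m i'' j'' k'' = (pc m)⁻¹ := by
    rcases h2 with ⟨h2, h2'⟩ | ⟨h2, h2'⟩
    · rw [h2] at hc1
      rw [h2'] at hc2
      exact norm_two hm _ _ _ hc1 hc2 hc3
    · rw [h2] at hc1
      rw [h2'] at hc2
      exact norm_two hm _ _ _ hc2 hc1 hc3
  -- `σ²` commutes with the three cycles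
  have sa : σ * σ * pa m = pa m * (σ * σ) := by
    rw [← mul_inv_eq_iff_eq_mul]
    calc σ * σ * pa m * (σ * σ)⁻¹ = σ * (σ * pa m * σ⁻¹) * σ⁻¹ := by group
      _ = pa m := by
        rcases h2 with ⟨h2, h2'⟩ | ⟨h2, h2'⟩
        · rw [qa, h2, qa, h2]
        · rw [qa, h2, qb, h2']
  have sb : σ * σ * pb m = pb m * (σ * σ) := by
    rw [← mul_inv_eq_iff_eq_mul]
    calc σ * σ * pb m * (σ * σ)⁻¹ = σ * (σ * pb m * σ⁻¹) * σ⁻¹ := by group
      _ = pb m := by
        rcases h2 with ⟨h2, h2'⟩ | ⟨h2, h2'⟩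
        · rw [qb, h2', qb, h2']
        · rw [qb, h2', qa, h2]
  have sc : σ * σ * pc m = pc m * (σ * σ) := by
    rw [← mul_inv_eq_iff_eq_mul]
    calc σ * σ * pc m * (σ * σ)⁻¹ = σ * (σ * pc m * σ⁻¹) * σ⁻¹ := by group
      _ = pc m := by
        rcases h3 with h3 | h3
        · rw [qc, h3, qc, h3]
        · rw [qc, h3]
          calc σ * (pc m)⁻¹ * σ⁻¹ = (σ * pc m * σ⁻¹)⁻¹ := by group
            _ = pc m := by rw [qc, h3, inv_inv]
  have hh1 : (1 : Fin 3) ≠ 0 := by decide
  obtain ⟨i1, j1, k1, h4⟩ := exists_pw hm (σ := σ * σ) (s := 1) (k := 1) hh1 hh1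
    ((show Commute (σ * σ) (pa m) from sa).mul_right (show Commute (σ * σ) (pb m) from sb)).eq
    (by rw [e101]; exact ((show Commute (σ * σ) (pa m) from sa).mul_right (show Commute (σ * σ) (pc m) from sc)).eq)
  refine ⟨i1, j1, k1, ?_⟩
  apply K.lift_eq
  rw [map_mul, π_el H, ← h4]

omit hm H in
theorem uu_apply (K : Cover (Fin (m + 9)) C) {u : C} (hu : u * u = 1) (x : Fin (m + 9)) : K.π u (K.π u x) = x := by
  have h1 : K.π u * K.π u = 1 := by rw [← map_mul, hu, map_one]
  have := congrArg (fun f : Perm (Fin (m + 9)) => f x) h1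
  simpa only [Perm.mul_apply, Perm.one_apply] using this

omit hm H in
theorem moved_u (K : Cover (Fin (m + 9)) C) {u : C} (hu : u * u = 1) {x : Fin (m + 9)} (hx : K.π u x ≠ x) :
    K.π u (K.π u x) ≠ K.π u x := fun h => hx ((K.π u).injective h)

/-- a normal `2`-subgroup of `C_C(u)` -/
def blk (K : Cover (Fin (m + 9)) C) {u : C} (hu : u * u = 1) : Subgroup C where
  carrier := {g | g * u = u * g ∧ ∀ x, K.π u x ≠ x → K.π g x = x ∨ K.π g x = K.π u x}
  mul_mem' := by
    rintro g h ⟨hg, hg'⟩ ⟨hh, hh'⟩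
    refine ⟨by rw [mul_assoc, hh, ← mul_assoc, hg, mul_assoc], fun x hx => ?_⟩
    rw [map_mul, Perm.mul_apply]
    rcases hh' x hx with h1 | h1
    · rw [h1]; exact hg' x hx
    · rw [h1]
      rcases hg' _ (moved_u K hu hx) with h2 | h2
      · right; exact h2
      · left; rw [h2, uu_apply K hu]
  one_mem' := ⟨by rw [one_mul, mul_one], fun x _ => Or.inl (by rw [map_one]; rfl)⟩
  inv_mem' := by
    rintro g ⟨hg, hg'⟩
    refine ⟨?_, fun x hx => ?_⟩
    · exact ((show Commute g u from hg).inv_left).eq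
    · rw [map_inv, Perm.inv_eq_iff_eq, Perm.inv_eq_iff_eq]
      rcases hg' x hx with h1 | h1
      · left; exact h1.symm
      · right
        rcases hg' _ (moved_u K hu hx) with h2 | h2
        · exfalso
          apply hx
          exact (K.π g).injective (by rw [h2, h1])
        · rw [h2, uu_apply K hu]

omit hm H in
theorem conj_mem_blk (K : Cover (Fin (m + 9)) C) {u : C} (hu : u * u = 1) {d g : C} (hd : d * u = u * d)
    (hg : g ∈ blk K hu) : d * g * d⁻¹ ∈ blk K hu := by
  obtain ⟨hg, hg'⟩ := hg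
  refine ⟨?_, fun x hx => ?_⟩
  · have c1 : Commute d u := hd
    have c2 : Commute g u := hg
    exact ((c1.mul_left c2).mul_left c1.inv_left).eq
  · have hdπ : K.π d * K.π u = K.π u * K.π d := by rw [← map_mul, hd, map_mul]
    have hdi : (K.π d)⁻¹ * K.π u = K.π u * (K.π d)⁻¹ := (show Commute (K.π d) (K.π u) from hdπ).inv_left
    rw [map_mul, map_mul, map_inv, Perm.mul_apply, Perm.mul_apply]
    rcases hg' ((K.π d)⁻¹ x) (fun h => hx ((moved_iff hdi x).1 h)) with h1 | h1
    · left; rw [h1]; simp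
    · right; rw [h1, ← apply_comm hdi]; simp

omit H in
theorem pow_four_of_mem_blk (K : Cover (Fin (m + 9)) C) {u : C} (hu : u * u = 1) (hu1 : u ≠ 1) (huz : u ≠ K.z)
    {g : C} (hg : g ∈ blk K hu) : g ^ 4 = 1 := by
  obtain ⟨hg, hg'⟩ := hg
  have h8 := card_eight hm hu hu1 huz
  have hgπ : K.π g * K.π u = K.π u * K.π g := by rw [← map_mul, hg, map_mul]
  have h2 : K.π g * K.π g = 1 := by
    ext x : 1
    rw [Perm.mul_apply, Perm.one_apply]
    by_cases hx : K.π u x = x
    · by_contra hne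
      have e1 : K.π u (K.π g x) = K.π g x := (moved_iff hgπ x).2 hx
      have e2 : K.π u (K.π g (K.π g x)) = K.π g (K.π g x) := (moved_iff hgπ _).2 e1
      have e3 : K.π g x ≠ x := fun h => hne (by rw [h, h])
      have h3 : ({x, K.π g x, K.π g (K.π g x)} : Finset (Fin (m + 9))) ⊆ (K.π u).supportᶜ := by
        intro y hy
        rw [Finset.mem_compl, Perm.notMem_support]
        simp only [Finset.mem_insert, Finset.mem_singleton] at hy
        rcases hy with rfl | rfl | rfl
        · exact hx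
        · exact e1
        · exact e2
      have h4 := Finset.card_le_card h3
      have h5 : ({x, K.π g x, K.π g (K.π g x)} : Finset (Fin (m + 9))).card = 3 := by
        rw [Finset.card_insert_of_notMem, Finset.card_pair]
        · intro h; exact e3 ((K.π g).injective h).symm
        · rw [Finset.mem_insert, Finset.mem_singleton]
          rintro (h | h)
          · exact e3 h.symm
          · exact hne h.symm
      rw [h5, Finset.card_compl, Fintype.card_fin, h8] at h4
      omega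
    · rcases hg' x hx with h1 | h1
      · rw [h1, h1]
      · rcases hg' _ (moved_u K hu hx) with h2 | h2
        · exfalso
          apply hx
          exact (K.π g).injective (by rw [h2, h1])
        · rw [h1, h2, uu_apply K hu]
  have h3 : K.π (g * g) = 1 := by rw [map_mul, h2]
  have h4 : g ^ 4 = (g * g) * (g * g) := by
    rw [← pow_two, ← pow_two, ← pow_mul]
  rw [h4]
  rcases (K.ker _).1 h3 with h | h
  · rw [h, one_mul]
  · rw [h, K.z_mul_z]

omit hm H in
theorem isPGroup_blk (hm : m < 2) (K : Cover (Fin (m + 9)) C) {u : C} (hu : u * u = 1) (hu1 : u ≠ 1)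
    (huz : u ≠ K.z) : IsPGroup 2 (blk K hu) := by
  intro g
  exact ⟨2, Subtype.ext (pow_four_of_mem_blk hm K hu hu1 huz g.2)⟩

omit hm in
/-- `C_C(u)` contains an element of order 4 with square `z` in the group `blk`. -/
theorem exists_q (hm : m < 2) (hu : u * u = 1) : ∃ q ∈ blk K hu, q * q = K.z := by
  obtain ⟨q, hq⟩ := K.exists_lift (σ := swap 0 3 * swap 1 4) (by
    rw [Perm.mem_alternatingGroup]; interval_cases m <;> decide +kernel)
  obtain ⟨u2, hu2⟩ := K.exists_lift (σ := swap 2 5 * swap 6 7) (by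
    rw [Perm.mem_alternatingGroup]; interval_cases m <;> decide +kernel)
  have hne : ((0 : Fin (m + 9)) ≠ 3 ∧ (0 : Fin (m + 9)) ≠ 1 ∧ (0 : Fin (m + 9)) ≠ 4 ∧ (3 : Fin (m + 9)) ≠ 1 ∧
      (3 : Fin (m + 9)) ≠ 4 ∧ (1 : Fin (m + 9)) ≠ 4) := by interval_cases m <;> decide
  obtain ⟨n1, n2, n3, n4, n5, n6⟩ := hne
  have hcomm : q * u2 = u2 * q := K.commute_of_disjoint (by
    rw [hq, hu2]
    clear * - hm
    interval_cases m <;> unfold Perm.Disjoint <;> decide +kernel)
  have h3 : u = q * u2 ∨ u = q * u2 * K.z := K.lift_eq (by rw [H.πu, map_mul, hq, hu2, split_pu hm])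
  refine ⟨q, ⟨?_, ?_⟩, K.dbl 0 3 1 4 n1 n2 n3 n4 n5 n6 q hq⟩
  · have c1 : Commute q u2 := hcomm
    have c2 : Commute q K.z := K.z_comm q
    rcases h3 with rfl | rfl
    · exact ((Commute.refl q).mul_right c1).eq
    · exact (((Commute.refl q).mul_right c1).mul_right c2).eq
  · rw [H.πu, hq]
    clear * - hm
    interval_cases m <;> decide +kernel

end Cfsg.Agent.SporRec.NineTwo.Three
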