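import Mathlib
import Cfsg.Agent.SporRec.LyType
import Cfsg.Agent.SporRec.NineTwo.Three
import Cfsg.Agent.S0058

/-!
# Abstract lemmas: recognising Sylow subgroups, four-groups in centralisers
-/

set_option autoImplicit false

namespace Cfsg.Agent.SporRec.NineTwo.Abs

open Subgroup Cfsg.Agent.SporRec.LyType

/-- A `p`-subgroup `P` which contains all `p`-elements normalising it contains a conjugate of each `p`-subgroup. -/
theorem exists_conj_le_top {D : Type*} [Group D] [Finite D] {p : ℕ} [Fact p.Prime] {P : Subgroup D} (hP : IsPGroup p P)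
    (hN : ∀ g : D, (∃ k : ℕ, g ^ p ^ k = 1) → (∀ y ∈ P, g * y * g⁻¹ ∈ P) → g ∈ P) {Q : Subgroup D}
    (hQ : IsPGroup p Q) : ∃ g : D, ∀ q ∈ Q, g * q * g⁻¹ ∈ P := by
  obtain ⟨S, hS⟩ := hP.exists_le_sylow
  have hSP : (S : Subgroup D) = P := by
    refine le_antisymm ?_ hS
    have hnil : Group.IsNilpotent S := S.2.isNilpotent
    have hnc := Group.normalizerCondition_of_isNilpotent (G := S)
    rw [normalizerCondition_iff_only_full_group_self_normalizing] at hnc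
    have h1 := hnc (P.subgroupOf S) (by
      refine le_antisymm ?_ le_normalizer
      intro g hg
      rw [mem_subgroupOf]
      obtain ⟨k, hk⟩ := S.2 g
      refine hN g ⟨k, ?_⟩ ?_
      · have := congrArg Subtype.val hk
        simpa using this
      · intro y hy
        have h2 := (mem_normalizer_iff.1 hg ⟨y, hS hy⟩).1 (mem_subgroupOf.2 hy)
        exact mem_subgroupOf.1 h2)
    rw [subgroupOf_eq_top] at h1
    exact h1
  obtain ⟨S', hS'⟩ := hQ.exists_le_sylow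
  obtain ⟨g, hg⟩ := MulAction.exists_smul_eq D S' S
  refine ⟨g, fun q hq => ?_⟩
  rw [← hSP, ← hg, Sylow.coe_subgroup_smul]
  exact ⟨q, hS' hq, rfl⟩

/-- The relative form. -/
theorem exists_conj_le {G : Type*} [Group G] [Finite G] {p : ℕ} [Fact p.Prime] {H P : Subgroup G} (hPH : P ≤ H)
    (hP : IsPGroup p P)
    (hN : ∀ g ∈ H, (∃ k : ℕ, g ^ p ^ k = 1) → (∀ y ∈ P, g * y * g⁻¹ ∈ P) → g ∈ P) {Q : Subgroup G} (hQH : Q ≤ H)
    (hQ : IsPGroup p Q) : ∃ g ∈ H, ∀ q ∈ Q, g * q * g⁻¹ ∈ P := by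
  obtain ⟨g, hg⟩ := exists_conj_le_top (P := P.subgroupOf H) (Q := Q.subgroupOf H) (p := p)
    (hP.of_equiv (subgroupOfEquivOfLe hPH).symm) (by
      rintro g ⟨k, hk⟩ h
      rw [mem_subgroupOf]
      refine hN g g.2 ⟨k, by simpa using congrArg Subtype.val hk⟩ (fun y hy => ?_)
      exact mem_subgroupOf.1 (h ⟨y, hPH hy⟩ (mem_subgroupOf.2 hy))) (hQ.of_equiv (subgroupOfEquivOfLe hQH).symm)
  refine ⟨g, g.2, fun q hq => ?_⟩
  exact mem_subgroupOf.1 (hg ⟨q, hQH hq⟩ (mem_subgroupOf.2 hq))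

/-- If `r` commutes with the involution `t` and with two distinct commuting involutions then it commutes with an
involution `≠ t` which commutes with `t`. -/
theorem exists_involution {G : Type*} [Group G] [Finite G] {t r s₁ s₂ : G} (ht : t * t = 1)
    (htr : t * r = r * t) (h1 : s₁ * s₁ = 1) (h11 : s₁ ≠ 1) (h2 : s₂ * s₂ = 1) (h21 : s₂ ≠ 1) (h12 : s₁ ≠ s₂)
    (hc : s₁ * s₂ = s₂ * s₁) (hr1 : s₁ * r = r * s₁) (hr2 : s₂ * r = r * s₂) :
    ∃ s, s * s = 1 ∧ s ≠ 1 ∧ s ≠ t ∧ s * t = t * s ∧ s * r = r * s := by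
  let H : Subgroup G := centralizer {r}
  have hH : ∀ x : G, x ∈ H ↔ x * r = r * x := fun x => mem_centralizer_singleton_iff
  have e1 : (⟨s₁, (hH _).2 hr1⟩ : H) * ⟨s₁, (hH _).2 hr1⟩ = 1 := Subtype.ext h1
  have et : (⟨t, (hH _).2 htr⟩ : H) * ⟨t, (hH _).2 htr⟩ = 1 := Subtype.ext ht
  rcases dihedral_dichotomy e1 et with ⟨g, hg⟩ | ⟨w, hw, hw1, hws, hwt⟩
  · -- `s₁` and `t` conjugate in `H`
    have hg' : (g : G) * s₁ * (g : G)⁻¹ = t := congrArg Subtype.val hg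
    refine ⟨g * s₂ * (g : G)⁻¹, ?_, ?_, ?_, ?_, ?_⟩
    · calc (g : G) * s₂ * (g : G)⁻¹ * (g * s₂ * (g : G)⁻¹) = g * (s₂ * s₂) * (g : G)⁻¹ := by group
        _ = 1 := by rw [h2]; group
    · intro h
      apply h21
      calc s₂ = (g : G)⁻¹ * (g * s₂ * (g : G)⁻¹) * g := by group
        _ = 1 := by rw [h]; group
    · intro h
      rw [← hg'] at h
      apply h12
      exact (mul_left_cancel (mul_right_cancel h)).symm
    · rw [← hg']
      calc (g : G) * s₂ * (g : G)⁻¹ * (g * s₁ * (g : G)⁻¹) = g * (s₂ * s₁) * (g : G)⁻¹ := by group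
        _ = g * (s₁ * s₂) * (g : G)⁻¹ := by rw [hc]
        _ = g * s₁ * (g : G)⁻¹ * (g * s₂ * (g : G)⁻¹) := by group
    · have c1 : Commute (g : G) r := (hH _).1 g.2
      have c2 : Commute s₂ r := hr2
      exact ((c1.mul_left c2).mul_left c1.inv_left).eq
  · -- a common involution
    by_cases hwt' : (w : G) = t
    · -- `t` commutes with `s₁`
      have hts : t * s₁ = s₁ * t := by
        have := congrArg Subtype.val hws
        rw [← hwt']
        exact this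
      by_cases hs1 : s₁ = t
      · exact ⟨s₂, h2, h21, fun h => h12 (hs1.trans h.symm), by rw [← hs1]; exact hc.symm, hr2⟩
      · exact ⟨s₁, h1, h11, hs1, hts.symm, hr1⟩
    · refine ⟨w, congrArg Subtype.val hw, fun h => hw1 (Subtype.ext h), hwt', congrArg Subtype.val hwt, (hH _).1 w.2⟩


/-! ### The `p`-core of a subgroup -/

section pcore

variable {G : Type*} [Group G] {p : ℕ}

/-- `O_p(Y)` as a subgroup of `G` -/
def pcoreOf (p : ℕ) (Y : Subgroup G) : Subgroup G := (Cfsg.pCore p Y).map Y.subtype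

theorem pcoreOf_le (Y : Subgroup G) : pcoreOf p Y ≤ Y := map_subtype_le _

theorem isPGroup_pcoreOf (Y : Subgroup G) : IsPGroup p (pcoreOf p Y) :=
  (Cfsg.Agent.Lib.Cores.pCore_isPGroup p).map _

theorem mem_pcoreOf {Y : Subgroup G} {k : G} : k ∈ pcoreOf p Y ↔ ∃ h : k ∈ Y, (⟨k, h⟩ : Y) ∈ Cfsg.pCore p Y := by
  constructor
  · rintro ⟨⟨y, hy⟩, h1, rfl⟩
    exact ⟨hy, h1⟩
  · rintro ⟨h, h1⟩
    exact ⟨⟨k, h⟩, h1, rfl⟩

theorem le_pcoreOf {Y N : Subgroup G} (hNY : N ≤ Y) (hN : ∀ y ∈ Y, ∀ n ∈ N, y * n * y⁻¹ ∈ N)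
    (hp : IsPGroup p N) : N ≤ pcoreOf p Y := by
  intro n hn
  rw [mem_pcoreOf]
  refine ⟨hNY hn, ?_⟩
  have h1 : (N.subgroupOf Y).Normal := ⟨fun a ha g => by
    rw [mem_subgroupOf] at ha ⊢
    exact hN g g.2 a ha⟩
  exact Cfsg.Agent.Lib.Cores.le_pCore h1 (hp.of_equiv (subgroupOfEquivOfLe hNY).symm)
    (show (⟨n, hNY hn⟩ : Y) ∈ N.subgroupOf Y from by rw [mem_subgroupOf]; exact hn)

theorem conj_mem_pcoreOf {Y : Subgroup G} {g : G} (h1 : ∀ y ∈ Y, g * y * g⁻¹ ∈ Y)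
    (h2 : ∀ y ∈ Y, g⁻¹ * y * g ∈ Y) {k : G} (hk : k ∈ pcoreOf p Y) : g * k * g⁻¹ ∈ pcoreOf p Y := by
  rw [mem_pcoreOf] at hk ⊢
  obtain ⟨hkY, hk⟩ := hk
  refine ⟨h1 k hkY, ?_⟩
  let e : Y ≃* Y :=
    { toFun := fun y => ⟨g * y * g⁻¹, h1 y y.2⟩
      invFun := fun y => ⟨g⁻¹ * y * g, h2 y y.2⟩
      left_inv := fun y => Subtype.ext (by
        show g⁻¹ * (g * y * g⁻¹) * g = y
        group)
      right_inv := fun y => Subtype.ext (by
        show g * (g⁻¹ * y * g) * g⁻¹ = y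
        group)
      map_mul' := fun x y => Subtype.ext (by
        show g * ((x : G) * y) * g⁻¹ = g * x * g⁻¹ * (g * y * g⁻¹)
        group) }
  rw [← Cfsg.Agent.Lib.Cores.map_equiv_pCore e p]
  exact ⟨⟨k, hkY⟩, hk, rfl⟩

end pcore

open Cfsg.Agent.SporRec.NineTwo.Three

/-- Generation of a `2`-group by the centralisers of the non-trivial elements of a group of order nine. -/
theorem gen {G : Type*} [Group G] [Finite G] {Q T : Subgroup G} (hQ : IsPGroup 2 Q) {ρ x : G} (hρ : ρ ^ 3 = 1)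
    (hx : x ^ 3 = 1) (hρx : ρ * x = x * ρ) (hxρ : x ∉ zpowers ρ) (hρ1 : ρ ≠ 1)
    (nρ : ∀ y ∈ Q, ρ * y * ρ⁻¹ ∈ Q) (nx : ∀ y ∈ Q, x * y * x⁻¹ ∈ Q)
    (h1 : ∀ y ∈ Q, y * ρ = ρ * y → y ∈ T)
    (h2 : ∀ m : Fin 3, ∀ y ∈ Q, y * (x * ρ ^ (m : ℕ)) = x * ρ ^ (m : ℕ) * y → y ∈ T) : Q ≤ T := by
  have h3 : Fact (Nat.Prime 3) := ⟨by norm_num⟩
  have h2' : Fact (Nat.Prime 2) := ⟨by norm_num⟩
  set R : Subgroup G := triple (a := ρ) (b := x) (c := 1) hρx (by rw [mul_one, one_mul]) (by rw [mul_one, one_mul])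
    hρ hx (one_pow _) with hR
  have hmem : ∀ y, y ∈ R ↔ ∃ i j k : Fin 3, y = el ρ x 1 i j k := fun y => Iff.rfl
  have hel : ∀ i j k : Fin 3, el ρ x 1 i j k = ρ ^ (i : ℕ) * x ^ (j : ℕ) := fun i j k => by
    rw [el, one_pow, mul_one]
  have hRcomm : ∀ y ∈ R, ∀ w ∈ R, y * w = w * y := by
    rintro y ⟨i, j, k, rfl⟩ w ⟨i', j', k', rfl⟩
    rw [el_mul hρx (by rw [mul_one, one_mul]) (by rw [mul_one, one_mul]) hρ hx (one_pow _),
      el_mul hρx (by rw [mul_one, one_mul]) (by rw [mul_one, one_mul]) hρ hx (one_pow _), add_comm i, add_comm j,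
      add_comm k]
  have hRpow : ∀ y ∈ R, y ^ 3 = 1 := by
    rintro y ⟨i, j, k, rfl⟩
    exact el_pow hρx (by rw [mul_one, one_mul]) (by rw [mul_one, one_mul]) hρ hx (one_pow _) i j k
  have hρR : ρ ∈ R := ⟨1, 0, 0, by simp [el]⟩
  have hxR : x ∈ R := ⟨0, 1, 0, by simp [el]⟩
  have : IsMulCommutative R := ⟨⟨fun y w => Subtype.ext (hRcomm y y.2 w w.2)⟩⟩
  have hR3 : IsPGroup 3 R := fun y => ⟨1, Subtype.ext (by
    rw [pow_one]
    exact hRpow y y.2)⟩
  have hncyc : ¬ IsCyclic R := by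
    rintro ⟨g, hg⟩
    obtain ⟨k, hk⟩ := hg ⟨ρ, hρR⟩
    obtain ⟨l, hl⟩ := hg ⟨x, hxR⟩
    have hk' : (g : G) ^ k = ρ := by
      have := congrArg Subtype.val hk
      simpa using this
    have hl' : (g : G) ^ l = x := by
      have := congrArg Subtype.val hl
      simpa using this
    have hg3 : (g : G) ^ (3 : ℤ) = 1 := by
      have := hRpow g g.2
      exact_mod_cast this
    have hk3 : ¬ (3 : ℤ) ∣ k := by
      rintro ⟨k', rfl⟩
      apply hρ1
      rw [← hk', zpow_mul, hg3, one_zpow]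
    -- `g ∈ ⟨ρ⟩`
    have hgρ : (g : G) ∈ zpowers ρ := by
      have hc : IsCoprime (3 : ℤ) k := by
        have := (Int.isCoprime_iff_gcd_eq_one (m := 3) (n := k)).2 (by
          have h4 : Int.gcd 3 k ∣ 3 := by exact_mod_cast Int.gcd_dvd_left 3 k
          have h5 := (Nat.dvd_prime Nat.prime_three).1 h4
          rcases h5 with h5 | h5
          · exact h5
          · exfalso
            apply hk3
            have h6 : ((Int.gcd 3 k : ℕ) : ℤ) ∣ k := Int.gcd_dvd_right 3 k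
            rw [h5] at h6
            exact_mod_cast h6)
        exact this
      obtain ⟨s, t, hst⟩ := hc
      refine ⟨t, ?_⟩
      show ρ ^ t = g
      calc ρ ^ t = ((g : G) ^ k) ^ t := by rw [hk']
        _ = (g : G) ^ (t * k) := by rw [← zpow_mul, mul_comm]
        _ = (g : G) ^ (3 * s) * (g : G) ^ (t * k) := by rw [zpow_mul (g : G) 3, hg3, one_zpow, one_mul]
        _ = (g : G) ^ (s * 3 + t * k) := by rw [← zpow_add, mul_comm 3 s]
        _ = g := by rw [hst, zpow_one]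
    apply hxρ
    rw [← hl']
    exact zpow_mem hgρ l
  have hRQ : R ≤ normalizer (Q : Set G) := by
    have hfin : ∀ g : G, (∀ y ∈ Q, g * y * g⁻¹ ∈ Q) → g ∈ normalizer (Q : Set G) :=
      fun g hg => Subgroup.mem_normalizer_fintype hg
    rintro y ⟨i, j, k, rfl⟩
    rw [hel]
    exact mul_mem (pow_mem (hfin _ nρ) _) (pow_mem (hfin _ nx) _)
  have hcop : (Nat.card R).Coprime (Nat.card Q) := by
    obtain ⟨r, hr⟩ := IsPGroup.iff_card.1 hR3
    obtain ⟨q, hq⟩ := IsPGroup.iff_card.1 hQ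
    rw [hr, hq]
    exact Nat.Coprime.pow _ _ (by norm_num)
  rw [← Cfsg.Agent.S0058.result R Q hncyc hRQ hcop]
  refine iSup₂_le ?_
  rintro y ⟨⟨i, j, k, rfl⟩, hy1⟩ w hw
  rw [hel] at hw hy1
  obtain ⟨hwQ, hwc⟩ := mem_inf.1 hw
  rw [mem_centralizer_singleton_iff] at hwc
  have hall : ∀ i : Fin 3, i = 0 ∨ i = 1 ∨ i = 2 := by decide
  rcases hall j with rfl | rfl | rfl
  · rcases hall i with rfl | rfl | rfl
    · simp at hy1
    · simp only [Fin.val_one, pow_one, Fin.val_zero, pow_zero, mul_one] at hwc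
      exact h1 w hwQ hwc
    · simp only [Fin.val_two, Fin.val_zero, pow_zero, mul_one] at hwc
      refine h1 w hwQ ?_
      have h4 : ρ = (ρ ^ 2) ^ 2 := by
        calc ρ = ρ ^ 3 * ρ := by rw [hρ, one_mul]
          _ = (ρ ^ 2) ^ 2 := by group
      have c : Commute w (ρ ^ 2) := hwc
      have := (c.pow_right 2).eq
      rw [← h4] at this
      exact this
  · refine h2 i w hwQ ?_
    simp only [Fin.val_one, pow_one] at hwc
    have h4 : x * ρ ^ (i : ℕ) = ρ ^ (i : ℕ) * x := ((show Commute ρ x from hρx).pow_left _).eq.symm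
    rw [h4]; exact hwc
  · refine h2 (i + i) w hwQ ?_
    simp only [Fin.val_two] at hwc
    have c0 : Commute ρ x := hρx
    have h4 : x * ρ ^ ((i + i : Fin 3) : ℕ) = (ρ ^ (i : ℕ) * x ^ 2) ^ 2 := by
      rw [pow_add_fin hρ, (c0.pow_pow (i : ℕ) 2).mul_pow]
      have e1 : (x ^ 2) ^ 2 = x := by
        calc (x ^ 2) ^ 2 = x ^ 3 * x := by group
          _ = x := by rw [hx, one_mul]
      rw [e1, pow_two]
      exact ((c0.pow_left _).mul_left (c0.pow_left _)).eq.symm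
    rw [h4]
    have c : Commute w (ρ ^ (i : ℕ) * x ^ 2) := hwc
    exact (c.pow_right 2).eq

end Cfsg.Agent.SporRec.NineTwo.Abs
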