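import Cfsg.Agent.SporRec.NineTwo.Main

/-!
# Involution centraliser `2.A_9`, `2.A_10`: the case where 3-cycle lifts have centraliser inside `C(t)` (end)
-/

set_option autoImplicit false
set_option linter.unusedSectionVars false

namespace Cfsg.Agent.SporRec.NineTwo.Final

open Subgroup Equiv Cfsg.Agent.SporRec.TwoAn Cfsg.Agent.SporRec.NineTwo.Perms Cfsg.Agent.SporRec.NineTwo.Lifts
open Cfsg.Agent.SporRec.NineTwo.Three Cfsg.Agent.SporRec.NineTwo.Abs Cfsg.Agent.SporRec.Nine.Core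
open Cfsg.Agent.SporRec.NineTwo.Main
open Cfsg.Agent.SporRec.LyType (dihedral_dichotomy)

variable {m : ℕ} (hm : m < 2) {G : Type*} [Group G] {L : AnType (m + 9) G}
  {a b c u g : centralizer ({L.t} : Set G)} (H : Lift L.K a b c u g)

theorem inv_conj {G : Type*} [Group G] {x a b : G} (h : x * a * x⁻¹ = b) : x⁻¹ * b * x = a := by
  rw [← h]; group

include hm H

theorem g_basic : (g : G) * u * (g : G)⁻¹ = u * L.t ∧ (g : G) * L.t * (g : G)⁻¹ = L.t := by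
  have hgu : (g : G) * u = u * g * L.t := by
    have := congrArg Subtype.val (gu hm H)
    simp only [Subgroup.coe_mul, L.hz] at this
    exact this
  constructor
  · rw [mul_inv_eq_iff_eq_mul, hgu, mul_assoc, comm_t g, ← mul_assoc]
  · rw [mul_inv_eq_iff_eq_mul, comm_t g]

/-- an element inverting `ρ` and `x` -/
theorem exists_j {x : G} (hxt : x * L.t * x⁻¹ = u * L.t) (hxu : x * u * x⁻¹ = L.t)
    (hxρ : x * (a * b) = a * b * x) :
    ∃ j : G, j * (a * b) * j⁻¹ = ((a : G) * b)⁻¹ ∧ j * x * j⁻¹ = x⁻¹ := by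
  obtain ⟨hut, huu, hu1, hutne⟩ := u_comm hm H
  obtain ⟨hρt, hρu, hρ3, hρ1, hρg⟩ := ρ_basic hm H
  obtain ⟨hgu, hgt⟩ := g_basic hm H
  have htt := L.t_mul_t
  have hti := L.t_inv
  have hui : (u : G)⁻¹ = u := inv_eq_of_mul_eq_one_left huu
  have hxut : x * (u * L.t) * x⁻¹ = u := by
    calc x * (u * L.t) * x⁻¹ = (x * u * x⁻¹) * (x * L.t * x⁻¹) := by group
      _ = L.t * (u * L.t) := by rw [hxu, hxt]
      _ = L.t * (L.t * u) := by rw [hut]
      _ = u := by rw [← mul_assoc, htt, one_mul]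
  have hgut : (g : G) * (u * L.t) * (g : G)⁻¹ = u := by
    calc (g : G) * (u * L.t) * (g : G)⁻¹ = (g * u * (g : G)⁻¹) * (g * L.t * (g : G)⁻¹) := by group
      _ = u * (L.t * L.t) := by rw [hgu, hgt, mul_assoc]
      _ = u := by rw [htt, mul_one]
  -- inverse actions
  have gi1 : (g : G)⁻¹ * u * g = u * L.t := inv_conj hgut
  have gi2 : (g : G)⁻¹ * L.t * g = L.t := inv_conj hgt
  have xi1 : x⁻¹ * L.t * x = u := inv_conj hxu
  have xi2 : x⁻¹ * u * x = u * L.t := inv_conj hxut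
  have xi3 : x⁻¹ * (u * L.t) * x = L.t := inv_conj hxt
  set y : G := g * x * (g : G)⁻¹ * x with hy
  have hyt : y * L.t = L.t * y := by
    rw [← mul_inv_eq_iff_eq_mul]
    calc y * L.t * y⁻¹ = g * (x * ((g : G)⁻¹ * (x * L.t * x⁻¹) * g) * x⁻¹) * (g : G)⁻¹ := by rw [hy]; group
      _ = g * (x * (((g : G)⁻¹ * u * g) * ((g : G)⁻¹ * L.t * g)) * x⁻¹) * (g : G)⁻¹ := by rw [hxt]; group
      _ = g * (x * u * x⁻¹) * (g : G)⁻¹ := by
          rw [gi1, gi2, mul_assoc (u : G), htt, mul_one]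
      _ = L.t := by rw [hxu, hgt]
  have hyu : y * u = u * y := by
    rw [← mul_inv_eq_iff_eq_mul]
    calc y * u * y⁻¹ = g * (x * ((g : G)⁻¹ * (x * u * x⁻¹) * g) * x⁻¹) * (g : G)⁻¹ := by rw [hy]; group
      _ = g * (x * L.t * x⁻¹) * (g : G)⁻¹ := by rw [hxu, gi2]
      _ = u := by rw [hxt, hgut]
  have hρg' : (g : G) * ((a : G) * b)⁻¹ * (g : G)⁻¹ = (a : G) * b := by
    calc (g : G) * ((a : G) * b)⁻¹ * (g : G)⁻¹ = (g * (a * b) * (g : G)⁻¹)⁻¹ := by group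
      _ = (a : G) * b := by rw [hρg, inv_inv]
  have hρgi : (g : G)⁻¹ * (a * b) * g = ((a : G) * b)⁻¹ := by
    calc (g : G)⁻¹ * (a * b) * g = (g : G)⁻¹ * (g * ((a : G) * b)⁻¹ * (g : G)⁻¹) * g := by rw [hρg']
      _ = ((a : G) * b)⁻¹ := by group
  have hxρ' : x * (a * b) * x⁻¹ = a * b := by rw [hxρ, mul_inv_cancel_right]
  have hyρ : y * (a * b) = a * b * y := by
    rw [← mul_inv_eq_iff_eq_mul]
    calc y * (a * b) * y⁻¹ = g * (x * ((g : G)⁻¹ * (x * (a * b) * x⁻¹) * g) * x⁻¹) * (g : G)⁻¹ := by rw [hy]; group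
      _ = g * (x * ((a : G) * b)⁻¹ * x⁻¹) * (g : G)⁻¹ := by rw [hxρ', hρgi]
      _ = g * (x * (a * b) * x⁻¹)⁻¹ * (g : G)⁻¹ := by group
      _ = a * b := by rw [hxρ', hρg']
  obtain ⟨i, j, e, h4⟩ := exists_of_comm' hm H hyt hyρ hyu
  -- the correcting element
  obtain ⟨w, hw1, hw2, hw3, hw4⟩ : ∃ w : G, w * (x⁻¹ * w * x) = (u : G) ^ (j : ℕ) * L.t ^ (e : ℕ) ∧
      w * (a * b) = a * b * w ∧ w * w = 1 ∧
      w * ((u : G) ^ (j : ℕ) * L.t ^ (e : ℕ)) = (u : G) ^ (j : ℕ) * L.t ^ (e : ℕ) * w := by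
    have hall : ∀ j : Fin 2, j = 0 ∨ j = 1 := by decide
    rcases hall j with rfl | rfl <;> rcases hall e with rfl | rfl
    · refine ⟨1, ?_, ?_, ?_, ?_⟩ <;> simp
    · -- `v = t`, `w = u`
      refine ⟨u, ?_, hρu.symm, huu, ?_⟩
      · rw [xi2, ← mul_assoc, huu]; simp
      · simp only [Fin.val_zero, pow_zero, one_mul, Fin.val_one, pow_one]
        exact hut
    · -- `v = u`, `w = u t`
      refine ⟨u * L.t, ?_, ?_, ?_, ?_⟩
      · rw [xi3, mul_assoc, htt]; simp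
      · exact ((show Commute ((a : G) * b) u from hρu).mul_right (show Commute ((a : G) * b) L.t from hρt)).eq.symm
      · calc (u : G) * L.t * (u * L.t) = u * (L.t * u) * L.t := by group
          _ = (u * u) * (L.t * L.t) := by rw [← hut]; group
          _ = 1 := by rw [huu, htt, one_mul]
      · simp only [Fin.val_zero, pow_zero, mul_one, Fin.val_one, pow_one]
        rw [mul_assoc, ← hut]
    · -- `v = u t`, `w = t`
      refine ⟨L.t, ?_, hρt.symm, htt, ?_⟩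
      · rw [xi1, ← hut]; simp
      · simp only [Fin.val_one, pow_one]
        rw [← mul_assoc, ← hut]
  set v : G := (u : G) ^ (j : ℕ) * L.t ^ (e : ℕ) with hv
  have hvv : v * v = 1 := by
    have c3 : Commute (u : G) L.t := hut
    rw [hv, ← pow_two, (c3.pow_pow (j : ℕ) (e : ℕ)).mul_pow, ← pow_mul, ← pow_mul, mul_comm (j : ℕ), mul_comm (e : ℕ),
      pow_mul, pow_mul, pow_two, pow_two, huu, htt, one_pow, one_pow, one_mul]
  have hwi : w⁻¹ = w := inv_eq_of_mul_eq_one_left hw3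
  set ρ : G := (a : G) * b with hρ
  have h5 : (g : G) * x * (g : G)⁻¹ = ρ ^ (i : ℕ) * v * x⁻¹ := by
    have : y = ρ ^ (i : ℕ) * v := by rw [h4, hv, mul_assoc]
    rw [← this, hy]; group
  set j₀ : G := w * g with hj₀
  have hjρ : j₀ * ρ * j₀⁻¹ = ρ⁻¹ := by
    calc j₀ * ρ * j₀⁻¹ = w * (g * ρ * (g : G)⁻¹) * w⁻¹ := by rw [hj₀]; group
      _ = w * ρ⁻¹ * w⁻¹ := by rw [hρg]
      _ = (w * ρ * w⁻¹)⁻¹ := by group
      _ = ρ⁻¹ := by rw [hw2, mul_inv_cancel_right]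
  have cwρ : Commute w (ρ ^ (i : ℕ)) := (show Commute w ρ from hw2).pow_right _
  have hjx : j₀ * x * j₀⁻¹ = ρ ^ (i : ℕ) * x⁻¹ := by
    calc j₀ * x * j₀⁻¹ = w * (g * x * (g : G)⁻¹) * w⁻¹ := by rw [hj₀]; group
      _ = (w * ρ ^ (i : ℕ)) * v * x⁻¹ * w⁻¹ := by rw [h5]; group
      _ = ρ ^ (i : ℕ) * (w * v) * x⁻¹ * w := by rw [cwρ.eq, hwi]; group
      _ = ρ ^ (i : ℕ) * (v * (w * (x⁻¹ * w * x))) * x⁻¹ := by rw [hw4]; group
      _ = ρ ^ (i : ℕ) * x⁻¹ := by rw [hw1, hvv, mul_one]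
  have cxρ : Commute x ρ := hxρ
  have hjρi : j₀ * ρ ^ (i : ℕ) * j₀⁻¹ = (ρ ^ (i : ℕ))⁻¹ := by rw [← conj_pow, hjρ, inv_pow]
  have hjx2 : j₀ * (j₀ * x * j₀⁻¹) * j₀⁻¹ = x * ρ ^ (i : ℕ) := by
    rw [hjx]
    have e1 : j₀ * (ρ ^ (i : ℕ) * x⁻¹) * j₀⁻¹ = (j₀ * ρ ^ (i : ℕ) * j₀⁻¹) * (j₀ * x * j₀⁻¹)⁻¹ := by group
    rw [e1, hjρi, hjx]
    have e2 : (ρ ^ (i : ℕ))⁻¹ * (ρ ^ (i : ℕ) * x⁻¹)⁻¹ = (ρ ^ (i : ℕ))⁻¹ * (x * (ρ ^ (i : ℕ))⁻¹) := by group
    rw [e2, (cxρ.pow_right _).inv_right.eq, ← mul_assoc, ((cxρ.pow_right _)).eq]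
    rw [← mul_inv_eq_iff_eq_mul, ← mul_inv_eq_one]
    have e3 : (ρ ^ (i : ℕ)) ^ 3 = 1 := by rw [← pow_mul, mul_comm, pow_mul, hρ3, one_pow]
    calc (ρ ^ (i : ℕ))⁻¹ * (ρ ^ (i : ℕ))⁻¹ * x * x⁻¹ * (ρ ^ (i : ℕ))⁻¹ = ((ρ ^ (i : ℕ)) ^ 3)⁻¹ := by group
      _ = 1 := by rw [e3, inv_one]
  refine ⟨j₀ * j₀ * j₀, ?_, ?_⟩
  · calc j₀ * j₀ * j₀ * ρ * (j₀ * j₀ * j₀)⁻¹ = j₀ * (j₀ * (j₀ * ρ * j₀⁻¹) * j₀⁻¹) * j₀⁻¹ := by group
      _ = j₀ * (j₀ * ρ⁻¹ * j₀⁻¹) * j₀⁻¹ := by rw [hjρ]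
      _ = j₀ * (j₀ * ρ * j₀⁻¹)⁻¹ * j₀⁻¹ := by group
      _ = ρ⁻¹ := by rw [hjρ, inv_inv, hjρ]
  · calc j₀ * j₀ * j₀ * x * (j₀ * j₀ * j₀)⁻¹ = j₀ * (j₀ * (j₀ * x * j₀⁻¹) * j₀⁻¹) * j₀⁻¹ := by group
      _ = (j₀ * x * j₀⁻¹) * (j₀ * ρ ^ (i : ℕ) * j₀⁻¹) := by rw [hjx2]; group
      _ = ρ ^ (i : ℕ) * (x⁻¹ * (ρ ^ (i : ℕ))⁻¹) := by rw [hjx, hjρi, mul_assoc]
      _ = x⁻¹ := by
        rw [((cxρ.pow_right (i : ℕ)).inv_inv).eq]
        group


/-- `x` acts fixed-point-freely on `⟨t, u⟩` -/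
theorem eq_one_of_fix {x : G} (hxt : x * L.t * x⁻¹ = u * L.t) (hxu : x * u * x⁻¹ = L.t) {j e : Fin 2}
    (h5 : x * ((u : G) ^ (j : ℕ) * L.t ^ (e : ℕ)) * x⁻¹ = (u : G) ^ (j : ℕ) * L.t ^ (e : ℕ)) :
    (u : G) ^ (j : ℕ) * L.t ^ (e : ℕ) = 1 := by
  obtain ⟨hut, huu, hu1, hutne⟩ := u_comm hm H
  have htt := L.t_mul_t
  have hxut : x * (u * L.t) * x⁻¹ = u := by
    calc x * (u * L.t) * x⁻¹ = (x * u * x⁻¹) * (x * L.t * x⁻¹) := by group
      _ = L.t * (u * L.t) := by rw [hxu, hxt]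
      _ = L.t * (L.t * u) := by rw [hut]
      _ = u := by rw [← mul_assoc, htt, one_mul]
  have hall : ∀ j : Fin 2, j = 0 ∨ j = 1 := by decide
  rcases hall j with rfl | rfl <;> rcases hall e with rfl | rfl
  · simp
  · exfalso
    simp only [Fin.val_zero, pow_zero, one_mul, Fin.val_one, pow_one] at h5
    rw [hxt] at h5
    exact hu1 (mul_eq_right.mp h5)
  · exfalso
    simp only [Fin.val_zero, pow_zero, mul_one, Fin.val_one, pow_one] at h5
    rw [hxu] at h5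
    exact hutne h5.symm
  · exfalso
    simp only [Fin.val_one, pow_one] at h5
    rw [hxut] at h5
    exact L.t_ne (mul_eq_left.mp h5.symm)

omit hm H in
/-- the group `D = C(t) ∩ C(u)` -/
def DD (L : AnType (m + 9) G) (u : G) : Subgroup G := centralizer {L.t} ⊓ centralizer {u}

omit hm H in
theorem mem_DD {v w : G} : v ∈ DD L w ↔ v * L.t = L.t * v ∧ v * w = w * v := by
  rw [DD, mem_inf, mem_centralizer_singleton_iff, mem_centralizer_singleton_iff]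

omit hm H in
theorem conj_comm {G : Type*} [Group G] {v s x : G} (h : v * s = s * v) :
    x * v * x⁻¹ * (x * s * x⁻¹) = x * s * x⁻¹ * (x * v * x⁻¹) := by
  calc x * v * x⁻¹ * (x * s * x⁻¹) = x * (v * s) * x⁻¹ := by group
    _ = x * (s * v) * x⁻¹ := by rw [h]
    _ = x * s * x⁻¹ * (x * v * x⁻¹) := by group

theorem x_norm {x : G} (hxt : x * L.t * x⁻¹ = u * L.t) (hxu : x * u * x⁻¹ = L.t) :
    (∀ y ∈ DD L u, x * y * x⁻¹ ∈ DD L u) ∧ ∀ y ∈ DD L u, x⁻¹ * y * x ∈ DD L u := by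
  obtain ⟨hut, huu, hu1, hutne⟩ := u_comm hm H
  have htt := L.t_mul_t
  have hxut : x * (u * L.t) * x⁻¹ = u := by
    calc x * (u * L.t) * x⁻¹ = (x * u * x⁻¹) * (x * L.t * x⁻¹) := by group
      _ = L.t * (u * L.t) := by rw [hxu, hxt]
      _ = L.t * (L.t * u) := by rw [hut]
      _ = u := by rw [← mul_assoc, htt, one_mul]
  constructor
  · intro y hy
    obtain ⟨h1, h2⟩ := mem_DD.1 hy
    rw [mem_DD]
    constructor
    · have := conj_comm (x := x) h2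
      rwa [hxu] at this
    · have h3 : y * (u * L.t) = u * L.t * y := ((show Commute y u from h2).mul_right (show Commute y L.t from h1)).eq
      have := conj_comm (x := x) h3
      rwa [hxut] at this
  · intro y hy
    obtain ⟨h1, h2⟩ := mem_DD.1 hy
    have xi1 : x⁻¹ * L.t * x = u := inv_conj hxu
    have xi2 : x⁻¹ * u * x = u * L.t := inv_conj hxut
    have e1 : x⁻¹ * y * x * u = u * (x⁻¹ * y * x) := by
      have := conj_comm (x := x⁻¹) h1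
      rw [inv_inv, xi1] at this
      exact this
    have e2 : x⁻¹ * y * x * (u * L.t) = u * L.t * (x⁻¹ * y * x) := by
      have := conj_comm (x := x⁻¹) h2
      rw [inv_inv, xi2] at this
      exact this
    rw [mem_DD]
    refine ⟨?_, e1⟩
    have c : Commute (x⁻¹ * y * x) (u * (u * L.t)) :=
      (show Commute (x⁻¹ * y * x) u from e1).mul_right (show Commute (x⁻¹ * y * x) (u * L.t) from e2)
    rw [← mul_assoc, huu, one_mul] at c
    exact c.eq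

/-- an element of `2`-power order of `C(t) ∩ C(u) ∩ C(ρ)` is in `⟨t, u⟩` -/
theorem mem_four {y : G} (hy : y ∈ DD L u) {k : ℕ} (hk : y ^ 2 ^ k = 1) (hyρ : y * (a * b) = a * b * y) :
    ∃ j e : Fin 2, y = (u : G) ^ (j : ℕ) * L.t ^ (e : ℕ) := by
  obtain ⟨h1, h2⟩ := mem_DD.1 hy
  obtain ⟨hut, huu, hu1, hutne⟩ := u_comm hm H
  obtain ⟨hρt, hρu, hρ3, hρ1, hρg⟩ := ρ_basic hm H
  have htt := L.t_mul_t
  obtain ⟨i, j, e, h4⟩ := exists_of_comm' hm H h1 hyρ h2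
  refine ⟨j, e, ?_⟩
  set v : G := (u : G) ^ (j : ℕ) * L.t ^ (e : ℕ) with hv
  have hvv : v * v = 1 := by
    have c3 : Commute (u : G) L.t := hut
    rw [hv, ← pow_two, (c3.pow_pow (j : ℕ) (e : ℕ)).mul_pow, ← pow_mul, ← pow_mul, mul_comm (j : ℕ), mul_comm (e : ℕ),
      pow_mul, pow_mul, pow_two, pow_two, huu, htt, one_pow, one_pow, one_mul]
  set ρ : G := (a : G) * b with hρ
  have h5 : y = ρ ^ (i : ℕ) * v := by rw [h4, hv, mul_assoc]
  have c : Commute (ρ ^ (i : ℕ)) v :=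
    ((show Commute ρ u from hρu).pow_pow _ _).mul_right ((show Commute ρ L.t from hρt).pow_pow _ _)
  have h6 : (ρ ^ (i : ℕ)) ^ (2 ^ (k + 1)) = 1 := by
    have e1 : y ^ (2 ^ (k + 1)) = 1 := by rw [pow_succ 2, pow_mul, hk, one_pow]
    have e2 : v ^ (2 ^ (k + 1)) = 1 := by rw [pow_succ' 2, pow_mul, pow_two, hvv, one_pow]
    rw [h5, c.mul_pow, e2, mul_one] at e1
    exact e1
  have h7 : (ρ ^ (i : ℕ)) ^ 3 = 1 := by rw [← pow_mul, mul_comm, pow_mul, hρ3, one_pow]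
  have h8 : ρ ^ (i : ℕ) = 1 := by
    have e1 : Nat.gcd 3 (2 ^ (k + 1)) = 1 := Nat.Coprime.pow_right _ (by norm_num)
    have e2 := pow_gcd_eq_one.2 ⟨h7, h6⟩
    rw [e1, pow_one] at e2
    exact e2
  rw [h5, h8, one_mul]

/-- an element commuting with two distinct commuting involutions -/
def Two (r : G) : Prop := ∃ s₁ s₂ : G, s₁ * s₁ = 1 ∧ s₁ ≠ 1 ∧ s₂ * s₂ = 1 ∧ s₂ ≠ 1 ∧ s₁ ≠ s₂ ∧ s₁ * s₂ = s₂ * s₁ ∧
  s₁ * r = r * s₁ ∧ s₂ * r = r * s₂

theorem two_of_ne_bot [Finite G] {x : G} (hxt : x * L.t * x⁻¹ = u * L.t) (hxu : x * u * x⁻¹ = L.t)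
    (hxρ : x * (a * b) = a * b * x) (l : Fin 3)
    (hS : pcoreOf 2 (DD L u) ⊓ centralizer {x * ((a : G) * b) ^ (l : ℕ)} ≠ ⊥) : Two (x * ((a : G) * b) ^ (l : ℕ)) := by
  have h2 : Fact (Nat.Prime 2) := ⟨by norm_num⟩
  obtain ⟨hut, huu, hu1, hutne⟩ := u_comm hm H
  obtain ⟨hρt, hρu, hρ3, hρ1, hρg⟩ := ρ_basic hm H
  set ρ : G := (a : G) * b with hρ
  set r : G := x * ρ ^ (l : ℕ) with hr
  set S : Subgroup G := pcoreOf 2 (DD L u) ⊓ centralizer {r} with hSdef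
  have hQp : IsPGroup 2 (pcoreOf 2 (DD L (u : G))) := isPGroup_pcoreOf _
  have hSp : IsPGroup 2 S := hQp.to_le inf_le_left
  have hSn : Nontrivial S := (nontrivial_iff_ne_bot S).2 hS
  have hcn : Nontrivial (center S) := hSp.center_nontrivial
  have hcp : IsPGroup 2 (center S) := hSp.to_subgroup _
  obtain ⟨n, hn⟩ := IsPGroup.iff_card.1 hcp
  have hn0 : n ≠ 0 := by
    rintro rfl
    rw [pow_zero] at hn
    have := Finite.one_lt_card_iff_nontrivial.2 hcn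
    omega
  obtain ⟨s, hs⟩ := exists_prime_orderOf_dvd_card' (G := center S) 2 (by rw [hn]; exact dvd_pow_self 2 hn0)
  have hs2 : ((s : S) : G) * ((s : S) : G) = 1 := by
    have := pow_orderOf_eq_one s
    rw [hs, pow_two] at this
    exact congrArg Subtype.val (congrArg Subtype.val this)
  have hs1 : ((s : S) : G) ≠ 1 := by
    intro h
    have : s = 1 := Subtype.ext (Subtype.ext h)
    rw [this, orderOf_one] at hs
    omega
  set s₁ : G := ((s : S) : G) with hs₁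
  have hs₁S : s₁ ∈ S := (s : S).2
  have hcent : ∀ y ∈ S, s₁ * y = y * s₁ := fun y hy => by
    have := (mem_center_iff.1 s.2) ⟨y, hy⟩
    exact (congrArg Subtype.val this).symm
  obtain ⟨hs₁Q, hs₁r⟩ := mem_inf.1 hs₁S
  rw [mem_centralizer_singleton_iff] at hs₁r
  have hρD : ρ ∈ DD L (u : G) := mem_DD.2 ⟨hρt, hρu⟩
  have hρr : ρ * r = r * ρ := by
    have c : Commute ρ x := hxρ.symm
    exact (c.mul_right ((Commute.refl ρ).pow_right _)).eq
  have hs₂S : ρ * s₁ * ρ⁻¹ ∈ S := by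
    refine mem_inf.2 ⟨?_, ?_⟩
    · exact conj_mem_pcoreOf (fun y hy => mul_mem (mul_mem hρD hy) (inv_mem hρD))
        (fun y hy => mul_mem (mul_mem (inv_mem hρD) hy) hρD) hs₁Q
    · rw [mem_centralizer_singleton_iff]
      have c1 : Commute ρ r := hρr
      have c2 : Commute s₁ r := hs₁r
      exact ((c1.mul_left c2).mul_left c1.inv_left).eq
  refine ⟨s₁, ρ * s₁ * ρ⁻¹, hs2, hs1, ?_, ?_, ?_, hcent _ hs₂S, hs₁r, ?_⟩
  · calc ρ * s₁ * ρ⁻¹ * (ρ * s₁ * ρ⁻¹) = ρ * (s₁ * s₁) * ρ⁻¹ := by group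
      _ = 1 := by rw [hs2]; group
  · intro h
    apply hs1
    calc s₁ = ρ⁻¹ * (ρ * s₁ * ρ⁻¹) * ρ := by group
      _ = 1 := by rw [h]; group
  · intro h
    apply hs1
    have h3 : s₁ * ρ = ρ * s₁ := by
      rw [eq_mul_inv_iff_mul_eq] at h
      exact h
    obtain ⟨j, e, h4⟩ := mem_four hm H (pcoreOf_le _ hs₁Q) (k := 1) (by rw [pow_one, pow_two]; exact hs2) h3
    rw [h4]
    refine eq_one_of_fix hm H hxt hxu ?_
    rw [← h4, mul_inv_eq_iff_eq_mul]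
    have c1 : Commute s₁ r := hs₁r
    have c2 : Commute s₁ ρ := h3
    have c3 : Commute s₁ x := by
      have : x = r * (ρ ^ (l : ℕ))⁻¹ := by rw [hr]; group
      rw [this]
      exact c1.mul_right (c2.pow_right _).inv_right
    exact c3.eq.symm
  · exact mem_centralizer_singleton_iff.1 (mem_inf.1 hs₂S).2


omit hm H in
/-- the products of central involutions of `D` with elements of `S` -/
def prodZ {G : Type*} [Group G] {D S : Subgroup G} (hS : S ≤ D) : Subgroup G where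
  carrier := {y | ∃ v, (v ∈ D ∧ v * v = 1 ∧ ∀ d ∈ D, v * d = d * v) ∧ ∃ s ∈ S, y = v * s}
  mul_mem' := by
    rintro y y' ⟨v, ⟨hv, hv2, hvc⟩, s, hs, rfl⟩ ⟨v', ⟨hv', hv2', hvc'⟩, s', hs', rfl⟩
    refine ⟨v * v', ⟨mul_mem hv hv', ?_, ?_⟩, s * s', mul_mem hs hs', ?_⟩
    · calc v * v' * (v * v') = v * (v' * v) * v' := by group
        _ = (v * v) * (v' * v') := by rw [hvc' v hv]; group
        _ = 1 := by rw [hv2, hv2', one_mul]
    · intro d hd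
      calc v * v' * d = v * (v' * d) := by group
        _ = v * d * v' := by rw [hvc' d hd]; group
        _ = d * (v * v') := by rw [hvc d hd]; group
    · calc v * s * (v' * s') = v * (s * v') * s' := by group
        _ = v * v' * (s * s') := by rw [← hvc' s (hS hs)]; group
  one_mem' := ⟨1, ⟨one_mem _, one_mul 1, fun d _ => by rw [one_mul, mul_one]⟩, 1, one_mem _, (one_mul 1).symm⟩
  inv_mem' := by
    rintro y ⟨v, ⟨hv, hv2, hvc⟩, s, hs, rfl⟩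
    refine ⟨v, ⟨hv, hv2, hvc⟩, s⁻¹, inv_mem hs, ?_⟩
    rw [mul_inv_rev, inv_eq_of_mul_eq_one_left hv2, hvc _ (inv_mem (hS hs))]

/-- two of the three elements `x ρ^l` commute with two commuting involutions -/
theorem exists_line [Finite G] {x : G} (hxt : x * L.t * x⁻¹ = u * L.t) (hxu : x * u * x⁻¹ = L.t)
    (hxρ : x * (a * b) = a * b * x) (hx3 : x ^ 3 = 1) (l₀ : Fin 3) :
    ∃ l : Fin 3, l ≠ l₀ ∧ Two (x * ((a : G) * b) ^ (l : ℕ)) := by
  by_contra hcon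
  obtain ⟨hut, huu, hu1, hutne⟩ := u_comm hm H
  obtain ⟨hρt, hρu, hρ3, hρ1, hρg⟩ := ρ_basic hm H
  have htt := L.t_mul_t
  have hbot : ∀ l : Fin 3, l ≠ l₀ → pcoreOf 2 (DD L (u : G)) ⊓ centralizer {x * ((a : G) * b) ^ (l : ℕ)} = ⊥ := by
    intro l hl
    by_contra h
    exact hcon ⟨l, hl, two_of_ne_bot hm H hxt hxu hxρ l h⟩
  obtain ⟨hx1, hx2⟩ := x_norm hm H hxt hxu
  set ρ : G := (a : G) * b with hρ
  set Q : Subgroup G := pcoreOf 2 (DD L (u : G)) with hQ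
  have hQp : IsPGroup 2 Q := isPGroup_pcoreOf _
  have hQD : Q ≤ DD L u := pcoreOf_le _
  have hρD : ρ ∈ DD L (u : G) := mem_DD.2 ⟨hρt, hρu⟩
  have hSD : Q ⊓ centralizer {x * ρ ^ (l₀ : ℕ)} ≤ DD L (u : G) := inf_le_left.trans hQD
  have hutD : (u : G) * L.t * (u * L.t) = 1 := by
    calc (u : G) * L.t * (u * L.t) = u * (L.t * u) * L.t := by group
      _ = (u * u) * (L.t * L.t) := by rw [← hut]; group
      _ = 1 := by rw [huu, htt, one_mul]
  have hgen : Q ≤ prodZ hSD := by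
    refine gen (x := x) (ρ := ρ) hQp hρ3 hx3 hxρ.symm ?_ hρ1 ?_ ?_ ?_ ?_
    · intro h
      obtain ⟨k, hk⟩ := h
      have hk' : ρ ^ k = x := hk
      have h1 : x * L.t = L.t * x := by
        rw [← hk']
        exact ((show Commute ρ L.t from hρt).zpow_left k).eq
      rw [← mul_inv_eq_iff_eq_mul, hxt] at h1
      exact hu1 (mul_eq_right.mp h1)
    · intro y hy
      exact conj_mem_pcoreOf (fun y hy => mul_mem (mul_mem hρD hy) (inv_mem hρD))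
        (fun y hy => mul_mem (mul_mem (inv_mem hρD) hy) hρD) hy
    · intro y hy
      exact conj_mem_pcoreOf hx1 hx2 hy
    · intro y hy hyρ
      obtain ⟨k, hk⟩ := hQp ⟨y, hy⟩
      have hk' : y ^ 2 ^ k = 1 := by simpa using congrArg Subtype.val hk
      obtain ⟨j, e, h4⟩ := mem_four hm H (hQD hy) hk' hyρ
      refine ⟨y, ⟨hQD hy, ?_, ?_⟩, 1, one_mem _, (mul_one y).symm⟩
      · have c3 : Commute (u : G) L.t := hut
        rw [h4, ← pow_two, (c3.pow_pow (j : ℕ) (e : ℕ)).mul_pow, ← pow_mul, ← pow_mul, mul_comm (j : ℕ),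
          mul_comm (e : ℕ), pow_mul, pow_mul, pow_two, pow_two, huu, htt, one_pow, one_pow, one_mul]
      · intro d hd
        obtain ⟨d1, d2⟩ := mem_DD.1 hd
        rw [h4]
        exact (((show Commute d u from d2).pow_right _).mul_right ((show Commute d L.t from d1).pow_right _)).eq.symm
    · intro l y hy hyl
      by_cases hl : l = l₀
      · subst hl
        exact ⟨1, ⟨one_mem _, one_mul 1, fun d _ => by rw [one_mul, mul_one]⟩, y,
          mem_inf.2 ⟨hy, mem_centralizer_singleton_iff.2 hyl⟩, (one_mul y).symm⟩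
      · have h1 : y ∈ Q ⊓ centralizer {x * ρ ^ (l : ℕ)} := mem_inf.2 ⟨hy, mem_centralizer_singleton_iff.2 hyl⟩
        rw [hbot l hl, mem_bot] at h1
        rw [h1]
        exact one_mem _
  -- the element `q`
  have huu' : u * u = 1 := uu hm H
  have hune := u_ne hm H
  obtain ⟨q, hq, hqq⟩ := exists_q H hm huu'
  have hqQ : (q : G) ∈ Q := by
    have h1 : (blk L.K huu').map (centralizer ({L.t} : Set G)).subtype ≤ Q := by
      refine le_pcoreOf ?_ ?_ ?_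
      · rintro y ⟨w, hw, rfl⟩
        rw [mem_DD]
        exact ⟨comm_t w, congrArg Subtype.val hw.1⟩
      · rintro y hy n ⟨w, hw, rfl⟩
        obtain ⟨y1, y2⟩ := mem_DD.1 hy
        exact ⟨_, conj_mem_blk L.K huu' (d := ⟨y, L.mem_iff.2 y1⟩) (Subtype.ext y2) hw, rfl⟩
      · exact (isPGroup_blk hm L.K huu' hune.1 hune.2).map _
    exact h1 ⟨q, hq, rfl⟩
  obtain ⟨v, ⟨hv, hv2, hvc⟩, s, hs, hqv⟩ := hgen hqQ
  have h1 : (q : G) * q = L.t := by
    have := congrArg Subtype.val hqq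
    rw [Subgroup.coe_mul, L.hz] at this
    exact this
  have h2 : L.t = s * s := by
    rw [← h1, hqv]
    calc v * s * (v * s) = v * (s * v) * s := by group
      _ = (v * v) * (s * s) := by rw [← hvc s (hSD hs)]; group
      _ = s * s := by rw [hv2, one_mul]
  have h3 : L.t * (x * ρ ^ (l₀ : ℕ)) = x * ρ ^ (l₀ : ℕ) * L.t := by
    have h4 : s * (x * ρ ^ (l₀ : ℕ)) = x * ρ ^ (l₀ : ℕ) * s := mem_centralizer_singleton_iff.1 (mem_inf.1 hs).2
    have c : Commute s (x * ρ ^ (l₀ : ℕ)) := h4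
    have c2 := (c.mul_left c).eq
    rw [← h2] at c2
    exact c2
  have h4 : x * L.t = L.t * x := by
    have c1 : Commute L.t (x * ρ ^ (l₀ : ℕ)) := h3
    have c2 : Commute L.t (ρ ^ (l₀ : ℕ)) := (show Commute L.t ρ from hρt.symm).pow_right _
    have c3 := (c1.mul_right c2.inv_right).eq
    rw [mul_inv_cancel_right] at c3
    exact c3.symm
  rw [← mul_inv_eq_iff_eq_mul, hxt] at h4
  exact hu1 (mul_eq_right.mp h4)


omit hm H in
theorem fin_key : ∀ i j k l₁ l₂ : Fin 3, l₁ ≠ l₂ → ¬ (i = j ∧ k = 0) →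
    ((i + l₁ = 0 ∧ j + l₁ ≠ 0 ∧ k ≠ 0) ∨ (i + l₁ ≠ 0 ∧ j + l₁ = 0 ∧ k ≠ 0) ∨ (i + l₁ ≠ 0 ∧ j + l₁ ≠ 0 ∧ k = 0)) →
    ((i + l₂ = 0 ∧ j + l₂ ≠ 0 ∧ k ≠ 0) ∨ (i + l₂ ≠ 0 ∧ j + l₂ = 0 ∧ k ≠ 0) ∨ (i + l₂ ≠ 0 ∧ j + l₂ ≠ 0 ∧ k = 0)) →
    i - j ≠ 0 ∧ k ≠ 0 := by
  decide

omit hm H in
/-- **Main theorem of the case**: the centralisers of 3-cycle lifts are not all contained in `C(t)`. -/
theorem false_of_small [Finite G] (hm : m < 2) (L : AnType (m + 9) G)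
    (hc : ∀ (y : G) (hy : y * L.t = L.t * y), y ^ 3 = 1 → (L.K.π ⟨y, L.mem_iff.2 hy⟩).support.card = 3 →
      ∀ v, v * y = y * v → v * L.t = L.t * v) : False := by
  obtain ⟨a, b, c, u, g, H⟩ := exists_lift hm L.K
  have ea : (a : G) ^ 3 = 1 := by have := congrArg Subtype.val H.a3; simpa using this
  have hca : ∀ v : G, v * a = a * v → v * L.t = L.t * v := hc a (comm_t a) ea (by
    have : (⟨(a : G), L.mem_iff.2 (comm_t a)⟩ : centralizer ({L.t} : Set G)) = a := rfl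
    rw [this, H.πa, card_pa hm])
  obtain ⟨A, hA, hAp, hA3⟩ := ex_A hm H
  obtain ⟨x, hxt, hxu, hxρ, hx9⟩ := exists_x hm H
  obtain ⟨w, hwρ, hwA⟩ := exists_conj_A hm H hca hA hAp hA3 hxρ (k := 2) (by norm_num; exact hx9)
  have hx3 : x ^ 3 = 1 := by
    have h1 := hA3 _ hwA
    rw [conj_pow, mul_inv_eq_one] at h1
    exact mul_eq_left.mp h1
  obtain ⟨j, hjρ, hjx⟩ := exists_j hm H hxt hxu hxρ
  obtain ⟨l₁, -, hl₁⟩ := exists_line hm H hxt hxu hxρ hx3 0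
  obtain ⟨l₂, hl₂₁, hl₂⟩ := exists_line hm H hxt hxu hxρ hx3 l₁
  obtain ⟨hut, huu, hu1, hutne⟩ := u_comm hm H
  obtain ⟨hρt, hρu, hρ3, hρ1, hρg⟩ := ρ_basic hm H
  have htt := L.t_mul_t
  have e1 : (a : G) * b = b * a := congrArg Subtype.val (ab hm H)
  have e2 : (a : G) * c = c * a := congrArg Subtype.val (ac hm H)
  have e3 : (b : G) * c = c * b := congrArg Subtype.val (bc hm H)
  have eb : (b : G) ^ 3 = 1 := by have := congrArg Subtype.val H.b3; simpa using this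
  have ec : (c : G) ^ 3 = 1 := by have := congrArg Subtype.val H.c3; simpa using this
  obtain ⟨i, i', k, hx'⟩ := (hA _).1 hwA
  have hρpow : ∀ l : Fin 3, ((a : G) * b) ^ (l : ℕ) = el (a : G) b c l l 0 := fun l => by
    rw [(show Commute (a : G) b from e1).mul_pow, el]; simp
  have hxl : ∀ l : Fin 3, w * (x * ((a : G) * b) ^ (l : ℕ)) * w⁻¹ = el (a : G) b c (i + l) (i' + l) k := fun l => by
    have c1 : Commute w (((a : G) * b) ^ (l : ℕ)) := (show Commute w (a * b) from hwρ).pow_right _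
    calc w * (x * ((a : G) * b) ^ (l : ℕ)) * w⁻¹ = (w * x * w⁻¹) * (w * ((a : G) * b) ^ (l : ℕ) * w⁻¹) := by group
      _ = el (a : G) b c i i' k * el (a : G) b c l l 0 := by rw [hx', c1.eq, mul_inv_cancel_right, hρpow]
      _ = el (a : G) b c (i + l) (i' + l) k := by rw [el_mul e1 e2 e3 ea eb ec, add_zero]
  -- `x` does not commute with `t`
  have hxt' : x * L.t ≠ L.t * x := by
    intro h
    rw [← mul_inv_eq_iff_eq_mul, hxt] at h
    exact hu1 (mul_eq_right.mp h)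
  have hweight : ∀ l : Fin 3, Two (x * ((a : G) * b) ^ (l : ℕ)) →
      ((i + l = 0 ∧ i' + l ≠ 0 ∧ k ≠ 0) ∨ (i + l ≠ 0 ∧ i' + l = 0 ∧ k ≠ 0) ∨ (i + l ≠ 0 ∧ i' + l ≠ 0 ∧ k = 0)) := by
    rintro l ⟨s₁, s₂, h1, h11, h2, h21, h12, hcc, hr1, hr2⟩
    have cj : ∀ s r : G, s * r = r * s → (w * s * w⁻¹) * (w * r * w⁻¹) = (w * r * w⁻¹) * (w * s * w⁻¹) :=
      fun s r h => conj_comm h
    have sq : ∀ s : G, s * s = 1 → (w * s * w⁻¹) * (w * s * w⁻¹) = 1 := fun s h => by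
      calc (w * s * w⁻¹) * (w * s * w⁻¹) = w * (s * s) * w⁻¹ := by group
        _ = 1 := by rw [h]; group
    have ne : ∀ s : G, s ≠ 1 → w * s * w⁻¹ ≠ 1 := fun s h h' => h (by
      calc s = w⁻¹ * (w * s * w⁻¹) * w := by group
        _ = 1 := by rw [h']; group)
    have htr : L.t * (w * (x * ((a : G) * b) ^ (l : ℕ)) * w⁻¹) = w * (x * ((a : G) * b) ^ (l : ℕ)) * w⁻¹ * L.t := by
      rw [hxl l]
      exact (t_comm_of_mem hm H hA ((hA _).2 ⟨_, _, _, rfl⟩)).symm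
    obtain ⟨s, hs, hs1, hst, hsc, hsr⟩ := exists_involution (t := L.t) (r := w * (x * ((a : G) * b) ^ (l : ℕ)) * w⁻¹)
      (s₁ := w * s₁ * w⁻¹) (s₂ := w * s₂ * w⁻¹) htt htr (sq _ h1) (ne _ h11) (sq _ h2) (ne _ h21)
      (fun h => h12 (mul_left_cancel (mul_right_cancel h))) (cj _ _ hcc) (cj _ _ hr1) (cj _ _ hr2)
    refine weight_two hm H (s := ⟨s, L.mem_iff.2 hsc⟩) (Subtype.ext hs) (fun h => hs1 (congrArg Subtype.val h))
      (fun h => hst ((congrArg Subtype.val h).trans L.hz)) (Subtype.ext ?_) ?_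
    · rw [Subgroup.coe_mul, Subgroup.coe_mul, coe_el H, ← hxl l]
      exact hsr
    · intro h
      have h3 : el (a : G) b c (i + l) (i' + l) k = 1 := by rw [← coe_el H, h]; rfl
      rw [← hxl l, mul_inv_eq_one] at h3
      have h4 := mul_eq_left.mp h3
      apply hxt'
      have h5 : x = (((a : G) * b) ^ (l : ℕ))⁻¹ := by rw [eq_inv_iff_mul_eq_one, h4]
      rw [h5]
      exact (((show Commute ((a : G) * b) L.t from hρt).pow_left _).inv_left).eq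
  have hne : ¬ (i = i' ∧ k = 0) := by
    rintro ⟨h1, h2⟩
    rw [← h1, h2, ← hρpow] at hx'
    apply hxt'
    have h5 : x = ((a : G) * b) ^ (i : ℕ) := by
      have c1 : Commute w (((a : G) * b) ^ (i : ℕ)) := (show Commute w (a * b) from hwρ).pow_right _
      calc x = w⁻¹ * (w * x * w⁻¹) * w := by group
        _ = w⁻¹ * ((a : G) * b) ^ (i : ℕ) * w := by rw [hx']
        _ = ((a : G) * b) ^ (i : ℕ) := by rw [mul_assoc, ← c1.eq, inv_mul_cancel_left]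
    rw [h5]
    exact ((show Commute ((a : G) * b) L.t from hρt).pow_left _).eq
  obtain ⟨hs0, hk0⟩ := fin_key i i' k l₁ l₂ hl₂₁.symm hne (hweight l₁ hl₁) (hweight l₂ hl₂)
  -- the element `e = x' ρ^{-i'} = a^{i-i'} c^k`
  set e : G := el (a : G) b c (i - i') 0 k with he
  have hee : e = w * (x * ((a : G) * b) ^ ((-i' : Fin 3) : ℕ)) * w⁻¹ := by
    rw [hxl, he, sub_eq_add_neg, add_neg_cancel]
  -- `j' = w j w⁻¹` inverts `ρ` and `e`
  set ρ : G := (a : G) * b with hρ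
  set j' : G := w * j * w⁻¹ with hj'
  have hwρ' : w * ρ * w⁻¹ = ρ := by rw [hwρ, mul_inv_cancel_right]
  have hj'ρ : j' * ρ * j'⁻¹ = ρ⁻¹ := by
    have h1 : w⁻¹ * ρ * w = ρ := inv_conj hwρ'
    calc j' * ρ * j'⁻¹ = w * (j * (w⁻¹ * ρ * w) * j⁻¹) * w⁻¹ := by rw [hj']; group
      _ = w * ρ⁻¹ * w⁻¹ := by rw [h1, hjρ]
      _ = (w * ρ * w⁻¹)⁻¹ := by group
      _ = ρ⁻¹ := by rw [hwρ']
  have cxρ : Commute x ρ := hxρ
  have hj'e : j' * e * j'⁻¹ = e⁻¹ := by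
    have h1 : j * (x * ρ ^ ((-i' : Fin 3) : ℕ)) * j⁻¹ = (x * ρ ^ ((-i' : Fin 3) : ℕ))⁻¹ := by
      calc j * (x * ρ ^ ((-i' : Fin 3) : ℕ)) * j⁻¹ = (j * x * j⁻¹) * (j * ρ ^ ((-i' : Fin 3) : ℕ) * j⁻¹) := by group
        _ = x⁻¹ * (ρ⁻¹) ^ ((-i' : Fin 3) : ℕ) := by rw [hjx, ← conj_pow, hjρ]
        _ = (x * ρ ^ ((-i' : Fin 3) : ℕ))⁻¹ := by
          rw [inv_pow, ((cxρ.pow_right _).inv_inv).eq, ← mul_inv_rev]
    calc j' * e * j'⁻¹ = w * (j * (x * ρ ^ ((-i' : Fin 3) : ℕ)) * j⁻¹) * w⁻¹ := by rw [hj', hee]; group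
      _ = e⁻¹ := by rw [h1, hee]; group
  have het : e * L.t = L.t * e := t_comm_of_mem hm H hA ((hA _).2 ⟨_, _, _, rfl⟩)
  -- the only involution of `C(t) ∩ C(ρ) ∩ C(e)` is `t`
  have hinv : ∀ v : G, v * v = 1 → v ≠ 1 → v * L.t = L.t * v → v * ρ = ρ * v → v * e = e * v → v = L.t := by
    intro v h1 h2 h3 h4 h5
    have := eq_z_of_comm hm H (v := ⟨v, L.mem_iff.2 h3⟩) (Subtype.ext h1) (fun h => h2 (congrArg Subtype.val h))
      hs0 hk0 (Subtype.ext h4) (Subtype.ext (by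
        rw [Subgroup.coe_mul, Subgroup.coe_mul, coe_el H]
        exact h5))
    exact (congrArg Subtype.val this).trans L.hz
  -- `t' = j' t j'⁻¹`
  set t' : G := j' * L.t * j'⁻¹ with ht'
  have ht't' : t' * t' = 1 := by
    calc t' * t' = j' * (L.t * L.t) * j'⁻¹ := by rw [ht']; group
      _ = 1 := by rw [htt]; group
  have ht'1 : t' ≠ 1 := fun h => L.t_ne (by
    calc L.t = j'⁻¹ * t' * j' := by rw [ht']; group
      _ = 1 := by rw [h]; group)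
  have comm_inv : ∀ y : G, y * L.t = L.t * y → j' * y * j'⁻¹ = y⁻¹ → t' * y = y * t' := by
    intro y h1 h2
    have h3 : t' * y⁻¹ = y⁻¹ * t' := by
      have := conj_comm (x := j') h1
      rw [h2] at this
      exact this.symm
    have c : Commute t' y⁻¹ := h3
    have := c.inv_right.eq
    rwa [inv_inv] at this
  have ht'ρ : t' * ρ = ρ * t' := comm_inv ρ hρt hj'ρ
  have ht'e : t' * e = e * t' := comm_inv e het hj'e
  -- a conjugating element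
  obtain ⟨d, hdρ, hde, hd⟩ : ∃ d : G, d * ρ = ρ * d ∧ d * e = e * d ∧ d * t' * d⁻¹ = L.t := by
    let HH : Subgroup G := centralizer {ρ} ⊓ centralizer {e}
    have hHH : ∀ v, v ∈ HH ↔ v * ρ = ρ * v ∧ v * e = e * v := fun v => by
      rw [mem_inf, mem_centralizer_singleton_iff, mem_centralizer_singleton_iff]
    have h1 : (⟨t', (hHH _).2 ⟨ht'ρ, ht'e⟩⟩ : HH) * ⟨t', (hHH _).2 ⟨ht'ρ, ht'e⟩⟩ = 1 := Subtype.ext ht't'
    have h2 : (⟨L.t, (hHH _).2 ⟨hρt.symm, het.symm⟩⟩ : HH) * ⟨L.t, (hHH _).2 ⟨hρt.symm, het.symm⟩⟩ = 1 :=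
      Subtype.ext htt
    rcases dihedral_dichotomy h1 h2 with ⟨d, hd⟩ | ⟨v, hv, hv1, hvt', hvt⟩
    · exact ⟨d, ((hHH _).1 d.2).1, ((hHH _).1 d.2).2, congrArg Subtype.val hd⟩
    · obtain ⟨v1, v2⟩ := (hHH _).1 v.2
      have h3 : (v : G) = L.t := hinv v (congrArg Subtype.val hv) (fun h => hv1 (Subtype.ext h))
        (congrArg Subtype.val hvt) v1 v2
      have h4 : t' * L.t = L.t * t' := by
        have h5 : (v : G) * t' = t' * v := congrArg Subtype.val hvt'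
        rw [h3] at h5
        exact h5.symm
      have h5 : t' = L.t := hinv t' ht't' ht'1 h4 ht'ρ ht'e
      exact ⟨1, by rw [one_mul, mul_one], by rw [one_mul, mul_one], by rw [h5]; group⟩
  -- `j'' = d j'` commutes with `t` and inverts `ρ`, `e`
  have hj''t : d * j' * L.t = L.t * (d * j') := by
    rw [← mul_inv_eq_iff_eq_mul]
    calc d * j' * L.t * (d * j')⁻¹ = d * t' * d⁻¹ := by rw [ht']; group
      _ = L.t := hd
  have conj_inv : ∀ y : G, j' * y * j'⁻¹ = y⁻¹ → d * y = y * d → d * j' * y * (d * j')⁻¹ = y⁻¹ := by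
    intro y h1 h2
    calc d * j' * y * (d * j')⁻¹ = d * (j' * y * j'⁻¹) * d⁻¹ := by group
      _ = d * y⁻¹ * d⁻¹ := by rw [h1]
      _ = (d * y * d⁻¹)⁻¹ := by group
      _ = y⁻¹ := by rw [h2, mul_inv_cancel_right]
  refine not_inverts hm H (v := ⟨d * j', L.mem_iff.2 hj''t⟩) hs0 hk0 (Subtype.ext ?_) (Subtype.ext ?_)
  · exact conj_inv ρ hj'ρ hdρ
  · have := conj_inv e hj'e hde
    rw [he, ← coe_el H] at this
    exact this


end Cfsg.Agent.SporRec.NineTwo.Final
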