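import Cfsg.Agent.SporRec.NineTwo.Perms

/-!
# Elements of `2.A_9`, `2.A_10`
-/

set_option autoImplicit false
set_option linter.unusedSectionVars false

namespace Cfsg.Agent.SporRec.NineTwo.Lifts

open Subgroup Equiv Cfsg.Agent.SporRec.TwoAn Cfsg.Agent.SporRec.NineTwo.Perms

variable {m : ℕ} (hm : m < 2) {C : Type*} [Group C] {K : Cover (Fin (m + 9)) C}

/-- Lifts of `(0 1 2)`, `(3 4 5)`, `(6 7 8)`, `(0 3)(1 4)(2 5)(6 7)`, `(0 1)(3 4)`. -/
structure Lift (K : Cover (Fin (m + 9)) C) (a b c u g : C) : Prop where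
  πa : K.π a = pa m
  πb : K.π b = pb m
  πc : K.π c = pc m
  πu : K.π u = pu m
  πg : K.π g = pg m
  a3 : a ^ 3 = 1
  b3 : b ^ 3 = 1
  c3 : c ^ 3 = 1

include hm

theorem exists_lift (K : Cover (Fin (m + 9)) C) : ∃ a b c u g : C, Lift K a b c u g := by
  obtain ⟨a, ha, ha3⟩ := K.exists_odd_lift (σ := pa m) (n := 3) (by
    rw [Perm.mem_alternatingGroup]; interval_cases m <;> decide +kernel) (by decide) (pa_pow hm)
  obtain ⟨b, hb, hb3⟩ := K.exists_odd_lift (σ := pb m) (n := 3) (by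
    rw [Perm.mem_alternatingGroup]; interval_cases m <;> decide +kernel) (by decide) (pb_pow hm)
  obtain ⟨c, hc, hc3⟩ := K.exists_odd_lift (σ := pc m) (n := 3) (by
    rw [Perm.mem_alternatingGroup]; interval_cases m <;> decide +kernel) (by decide) (pc_pow hm)
  obtain ⟨u, hu⟩ := K.exists_lift (σ := pu m) (by
    rw [Perm.mem_alternatingGroup]; interval_cases m <;> decide +kernel)
  obtain ⟨g, hg⟩ := K.exists_lift (σ := pg m) (by
    rw [Perm.mem_alternatingGroup]; interval_cases m <;> decide +kernel)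
  exact ⟨a, b, c, u, g, ha, hb, hc, hu, hg, ha3, hb3, hc3⟩

variable {a b c u g : C} (H : Lift K a b c u g)

include H

theorem ab : a * b = b * a := K.commute_of_odd (n := 3) (by decide) H.a3 (by rw [H.πa, H.πb, pa_pb hm])
theorem ac : a * c = c * a := K.commute_of_odd (n := 3) (by decide) H.a3 (by rw [H.πa, H.πc, pa_pc hm])
theorem bc : b * c = c * b := K.commute_of_odd (n := 3) (by decide) H.b3 (by rw [H.πb, H.πc, pb_pc hm])

theorem uu : u * u = 1 := by
  rw [K.sq_eq_one_iff, H.πu, pu_sq hm, card_pu hm]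
  exact ⟨rfl, dvd_rfl⟩

theorem u_ne : u ≠ 1 ∧ u ≠ K.z := by
  constructor
  · intro h
    have h1 := card_pu hm
    rw [← H.πu, h, map_one, Perm.support_one, Finset.card_empty] at h1
    omega
  · intro h
    have h1 := card_pu hm
    rw [← H.πu, h, K.π_z, Perm.support_one, Finset.card_empty] at h1
    omega

omit hm H in
theorem conj_eq {x y v : C} (hx : x ^ 3 = 1) (hy : y ^ 3 = 1) (h : K.π v * K.π x * (K.π v)⁻¹ = K.π y) :
    v * x * v⁻¹ = y := by
  refine K.odd_lift_unique (n := 3) (by decide) ?_ hy (by rw [map_mul, map_mul, map_inv, h])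
  rw [conj_pow, hx, mul_one, mul_inv_cancel]

theorem ua : u * a * u⁻¹ = b := conj_eq (K := K) H.a3 H.b3 (by rw [H.πu, H.πa, H.πb, pu_pa hm])
theorem ub : u * b * u⁻¹ = a := conj_eq (K := K) H.b3 H.a3 (by rw [H.πu, H.πa, H.πb, pu_pb hm])
theorem ga : g * a * g⁻¹ = a⁻¹ := conj_eq (K := K) H.a3 (by rw [inv_pow, H.a3, inv_one])
  (by rw [H.πg, H.πa, map_inv, H.πa, pg_pa hm])
theorem gb : g * b * g⁻¹ = b⁻¹ := conj_eq (K := K) H.b3 (by rw [inv_pow, H.b3, inv_one])
  (by rw [H.πg, H.πb, map_inv, H.πb, pg_pb hm])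

omit H in
theorem split_pu : pu m = (swap 0 3 * swap 1 4) * (swap 2 5 * swap 6 7) := by
  interval_cases m <;> decide +kernel

theorem gu : g * u = u * g * K.z := by
  obtain ⟨u1, hu1⟩ := K.exists_lift (σ := swap 0 3 * swap 1 4) (by
    rw [Perm.mem_alternatingGroup]; interval_cases m <;> decide +kernel)
  obtain ⟨u2, hu2⟩ := K.exists_lift (σ := swap 2 5 * swap 6 7) (by
    rw [Perm.mem_alternatingGroup]; interval_cases m <;> decide +kernel)
  have hne : ((0 : Fin (m + 9)) ≠ 3 ∧ (0 : Fin (m + 9)) ≠ 1 ∧ (0 : Fin (m + 9)) ≠ 4 ∧ (3 : Fin (m + 9)) ≠ 1 ∧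
      (3 : Fin (m + 9)) ≠ 4 ∧ (1 : Fin (m + 9)) ≠ 4) := by interval_cases m <;> decide
  obtain ⟨n1, n2, n3, n4, n5, n6⟩ := hne
  have h1 : g * u1 = u1 * g * K.z := K.anticomm (a := 0) (b := 3) (c := 1) (d := 4) n1 n2 n3 n4 n5 n6
    hu1 (by rw [H.πg]; rfl)
  have h2 : g * u2 = u2 * g := K.commute_of_disjoint (by
    rw [H.πg, hu2]
    clear * - hm
    interval_cases m <;> unfold Perm.Disjoint <;> decide +kernel)
  have h3 : u = u1 * u2 ∨ u = u1 * u2 * K.z := K.lift_eq (by rw [H.πu, map_mul, hu1, hu2, split_pu hm])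
  have h4 : g * (u1 * u2) = u1 * u2 * g * K.z := by
    calc g * (u1 * u2) = (g * u1) * u2 := by group
      _ = u1 * g * (u2 * K.z) := by rw [h1, K.z_comm u2]; group
      _ = u1 * (g * u2) * K.z := by group
      _ = u1 * u2 * g * K.z := by rw [h2]; group
  rcases h3 with rfl | rfl
  · exact h4
  · calc g * (u1 * u2 * K.z) = g * (u1 * u2) * K.z := by group
      _ = u1 * u2 * g * K.z * K.z := by rw [h4]
      _ = u1 * u2 * (g * K.z) * K.z := by group
      _ = u1 * u2 * K.z * g * K.z := by rw [K.z_comm g]; group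


omit H in
theorem split_pu' : pu m = (swap 1 4 * swap 2 5) * (swap 0 3 * swap 6 7) := by
  interval_cases m <;> decide +kernel

omit hm H in
/-- A lift of `(6 7)(8 9)` does not commute with `u`. -/
theorem not_comm_h {K : Cover (Fin (1 + 9)) C} {u h : C} (hu : K.π u = pu 1) (hh : K.π h = ph 1 1 1) :
    h * u ≠ u * h := by
  obtain ⟨u1, hu1⟩ := K.exists_lift (σ := swap 1 4 * swap 2 5) (by
    rw [Perm.mem_alternatingGroup]; decide +kernel)
  obtain ⟨u2, hu2⟩ := K.exists_lift (σ := swap 0 3 * swap 6 7) (by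
    rw [Perm.mem_alternatingGroup]; decide +kernel)
  have h1 : h * u1 = u1 * h := K.commute_of_disjoint (by
    rw [hh, hu1]
    clear * -
    unfold Perm.Disjoint
    decide +kernel)
  have hhz : h * h = K.z := K.dbl 6 7 8 9 (by decide) (by decide) (by decide) (by decide) (by decide) (by decide) h
    (by rw [hh]; decide +kernel)
  have h2z : u2 * u2 = K.z := K.dbl 0 3 6 7 (by decide) (by decide) (by decide) (by decide) (by decide) (by decide) u2
    hu2
  have h12 : h * u2 * (h * u2) = K.z := K.dbl 0 3 8 9 (by decide) (by decide) (by decide) (by decide) (by decide)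
    (by decide) (h * u2) (by rw [map_mul, hh, hu2]; decide +kernel)
  have h2 : u2 * h = h * u2 * K.z := by
    have e1 : h * (u2 * h) * u2 = K.z := by rw [← h12]; group
    have e2 : u2 * h = h⁻¹ * K.z * u2⁻¹ := by rw [← e1]; group
    have e3 : h⁻¹ = h * K.z := by rw [inv_eq_iff_mul_eq_one, ← mul_assoc, hhz, K.z_mul_z]
    have e4 : u2⁻¹ = u2 * K.z := by rw [inv_eq_iff_mul_eq_one, ← mul_assoc, h2z, K.z_mul_z]
    rw [e2, e3, e4, mul_assoc h, K.z_mul_z, mul_one, mul_assoc]
  have h3 : u = u1 * u2 ∨ u = u1 * u2 * K.z := K.lift_eq (by rw [hu, map_mul, hu1, hu2, split_pu' (m := 1) (by norm_num)])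
  have h4 : u1 * u2 * h = h * (u1 * u2) * K.z := by
    calc u1 * u2 * h = u1 * (u2 * h) := by group
      _ = (u1 * h) * u2 * K.z := by rw [h2]; group
      _ = h * (u1 * u2) * K.z := by rw [← h1]; group
  intro hc
  apply K.z_ne
  rcases h3 with rfl | rfl
  · rw [← hc] at h4
    exact (mul_eq_left.mp h4.symm)
  · have h5 : u1 * u2 * h * K.z = h * (u1 * u2) * K.z := by
      calc u1 * u2 * h * K.z = u1 * u2 * (h * K.z) := by group
        _ = u1 * u2 * K.z * h := by rw [K.z_comm h]; group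
        _ = h * (u1 * u2 * K.z) := hc.symm
        _ = h * (u1 * u2) * K.z := by group
    have h6 := mul_right_cancel h5
    rw [h6] at h4
    exact (mul_eq_left.mp h4.symm)

/-- Elements commuting with `ab` and `u`. -/
theorem exists_of_comm {h : C} (h1 : h * (a * b) = a * b * h) (h2 : h * u = u * h) :
    ∃ (i : Fin 3) (j e : Fin 2), h = (a * b) ^ (i : ℕ) * u ^ (j : ℕ) * K.z ^ (e : ℕ) := by
  have p1 : K.π h * (pa m * pb m) = pa m * pb m * K.π h := by
    have := congrArg K.π h1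
    simpa only [map_mul, H.πa, H.πb] using this
  have p2 : K.π h * pu m = pu m * K.π h := by
    have := congrArg K.π h2
    simpa only [map_mul, H.πu] using this
  obtain ⟨i, j, hij⟩ := exists_pv hm p1 p2 (Perm.mem_alternatingGroup.1 (K.mem_alternating h))
  have hv : K.π ((a * b) ^ (i : ℕ) * u ^ (j : ℕ)) = pv m i j := by
    rw [map_mul, map_pow, map_pow, map_mul, H.πa, H.πb, H.πu, pv]
  have huab : u * (a * b) = a * b * u := by
    have e1 : u * (a * b) * u⁻¹ = a * b := by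
      calc u * (a * b) * u⁻¹ = (u * a * u⁻¹) * (u * b * u⁻¹) := by group
        _ = a * b := by rw [ua hm H, ub hm H, ab hm H]
    rw [mul_inv_eq_iff_eq_mul] at e1
    exact e1
  have hvu : (a * b) ^ (i : ℕ) * u ^ (j : ℕ) * u = u * ((a * b) ^ (i : ℕ) * u ^ (j : ℕ)) := by
    have c1 : Commute u (a * b) := huab
    exact (((c1.pow_right i).mul_right ((Commute.refl u).pow_right j))).eq.symm
  rcases hij with hij | ⟨rfl, hij⟩
  · rcases K.lift_eq (g := h) (h := (a * b) ^ (i : ℕ) * u ^ (j : ℕ)) (by rw [hij, hv]) with h3 | h3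
    · exact ⟨i, j, 0, by rw [h3]; simp⟩
    · exact ⟨i, j, 1, by rw [h3]; simp⟩
  · exfalso
    set w := ((a * b) ^ (i : ℕ) * u ^ (j : ℕ)) with hw
    have h3 : K.π (w⁻¹ * h) = ph 1 1 1 := by rw [map_mul, map_inv, hv, hij, inv_mul_cancel_left]
    apply not_comm_h H.πu h3
    have c1 : Commute w u := hvu
    have c2 : Commute h u := h2
    exact (c1.inv_left.mul_left c2).eq

end Cfsg.Agent.SporRec.NineTwo.Lifts
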