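import Cfsg.Agent.SporRec.Nine.Core
import Cfsg.Agent.SporRec.NineTwo.Abs

/-!
# Involution centraliser `2.A_9`, `2.A_10`: the case where 3-cycle lifts have centraliser inside `C(t)`
-/

set_option autoImplicit false
set_option linter.unusedSectionVars false

namespace Cfsg.Agent.SporRec.NineTwo.Main

open Subgroup Equiv Cfsg.Agent.SporRec.TwoAn Cfsg.Agent.SporRec.NineTwo.Perms Cfsg.Agent.SporRec.NineTwo.Lifts
open Cfsg.Agent.SporRec.NineTwo.Three Cfsg.Agent.SporRec.NineTwo.Abs Cfsg.Agent.SporRec.Nine.Core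
open Cfsg.Agent.SporRec.LyType (dihedral_dichotomy)

variable {m : ℕ} (hm : m < 2) {G : Type*} [Group G] {L : AnType (m + 9) G}
  {a b c u g : centralizer ({L.t} : Set G)} (H : Lift L.K a b c u g)

/-- membership in the centraliser -/
theorem comm_t (x : centralizer ({L.t} : Set G)) : (x : G) * L.t = L.t * x := L.mem_iff.1 x.2

include hm H

/-- the group `A = ⟨a, b, c⟩` in `G` -/
theorem ex_A : ∃ A : Subgroup G, (∀ y, y ∈ A ↔ ∃ i j k : Fin 3, y = el (a : G) b c i j k) ∧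
    IsPGroup 3 A ∧ ∀ y ∈ A, y ^ 3 = 1 := by
  have e1 : (a : G) * b = b * a := congrArg Subtype.val (ab hm H)
  have e2 : (a : G) * c = c * a := congrArg Subtype.val (ac hm H)
  have e3 : (b : G) * c = c * b := congrArg Subtype.val (bc hm H)
  have e4 : (a : G) ^ 3 = 1 := by have := congrArg Subtype.val H.a3; simpa using this
  have e5 : (b : G) ^ 3 = 1 := by have := congrArg Subtype.val H.b3; simpa using this
  have e6 : (c : G) ^ 3 = 1 := by have := congrArg Subtype.val H.c3; simpa using this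
  refine ⟨triple e1 e2 e3 e4 e5 e6, fun y => Iff.rfl, ?_, ?_⟩
  · rintro ⟨y, i, j, k, rfl⟩
    exact ⟨1, Subtype.ext (by rw [pow_one]; exact el_pow e1 e2 e3 e4 e5 e6 i j k)⟩
  · rintro y ⟨i, j, k, rfl⟩
    exact el_pow e1 e2 e3 e4 e5 e6 i j k

omit hm in
theorem coe_el (i j k : Fin 3) : ((el a b c i j k : centralizer ({L.t} : Set G)) : G) = el (a : G) b c i j k := by
  simp [el]


theorem t_comm_of_mem {A : Subgroup G} (hA : ∀ y, y ∈ A ↔ ∃ i j k : Fin 3, y = el (a : G) b c i j k) {y : G}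
    (hy : y ∈ A) : y * L.t = L.t * y := by
  obtain ⟨i, j, k, rfl⟩ := (hA y).1 hy
  rw [← coe_el H]
  exact comm_t _

omit hm in
theorem a_mem {A : Subgroup G} (hA : ∀ y, y ∈ A ↔ ∃ i j k : Fin 3, y = el (a : G) b c i j k) :
    (a : G) ∈ A ∧ (b : G) ∈ A ∧ (c : G) ∈ A := by
  refine ⟨(hA _).2 ⟨1, 0, 0, ?_⟩, (hA _).2 ⟨0, 1, 0, ?_⟩, (hA _).2 ⟨0, 0, 1, ?_⟩⟩ <;> simp [el]

/-- an element of `G` normalising `A` commutes with `t` -/
theorem comm_of_norm [Finite G] (hca : ∀ v : G, v * a = a * v → v * L.t = L.t * v) {A : Subgroup G}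
    (hA : ∀ y, y ∈ A ↔ ∃ i j k : Fin 3, y = el (a : G) b c i j k) {v : G} (hv : ∀ y ∈ A, v * y * v⁻¹ ∈ A) :
    v * L.t = L.t * v := by
  have h1 : v ∈ normalizer (A : Set G) := Subgroup.mem_normalizer_fintype hv
  have h2 : v⁻¹ * a * v ∈ A := by
    rw [mem_normalizer_iff] at h1
    rw [h1]
    have : v * (v⁻¹ * a * v) * v⁻¹ = a := by group
    rw [this]
    exact (a_mem H hA).1
  have h3 := t_comm_of_mem hm H hA h2
  have h4 : v * L.t * v⁻¹ * a = a * (v * L.t * v⁻¹) := by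
    calc v * L.t * v⁻¹ * a = v * (L.t * (v⁻¹ * a * v)) * v⁻¹ := by group
      _ = v * (v⁻¹ * a * v * L.t) * v⁻¹ := by rw [h3]
      _ = a * (v * L.t * v⁻¹) := by group
  have h5 := hca _ h4
  have h6 : v * L.t * v⁻¹ = L.t := by
    by_contra hne
    have h7 := weight_two hm H (s := ⟨v * L.t * v⁻¹, L.mem_iff.2 h5⟩) (i := 1) (j := 0) (k := 0) ?_ ?_ ?_ ?_ ?_
    · revert h7; decide
    · apply Subtype.ext
      show v * L.t * v⁻¹ * (v * L.t * v⁻¹) = 1
      calc v * L.t * v⁻¹ * (v * L.t * v⁻¹) = v * (L.t * L.t) * v⁻¹ := by group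
        _ = 1 := by rw [L.t_mul_t]; group
    · intro h
      apply L.t_ne
      have h8 : v * L.t * v⁻¹ = 1 := congrArg Subtype.val h
      calc L.t = v⁻¹ * (v * L.t * v⁻¹) * v := by group
        _ = 1 := by rw [h8]; group
    · intro h
      apply hne
      have h8 : v * L.t * v⁻¹ = (L.K.z : G) := congrArg Subtype.val h
      rw [h8, L.hz]
    · apply Subtype.ext
      show v * L.t * v⁻¹ * (el a b c 1 0 0 : centralizer ({L.t} : Set G)) =
        (el a b c 1 0 0 : centralizer ({L.t} : Set G)) * (v * L.t * v⁻¹)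
      have h8 : (el a b c 1 0 0 : centralizer ({L.t} : Set G)) = a := by simp [el]
      rw [h8]
      exact h4
    · intro h
      have h8 : (el a b c 1 0 0 : centralizer ({L.t} : Set G)) = a := by simp [el]
      rw [h8] at h
      have h9 := card_pa hm
      rw [← H.πa, h, map_one, Perm.support_one, Finset.card_empty] at h9
      omega
  rw [mul_inv_eq_iff_eq_mul] at h6
  exact h6

/-- `3`-elements normalising `A` and commuting with `ab` lie in `A` -/
theorem mem_of_norm [Finite G] (hca : ∀ v : G, v * a = a * v → v * L.t = L.t * v) {A : Subgroup G}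
    (hA : ∀ y, y ∈ A ↔ ∃ i j k : Fin 3, y = el (a : G) b c i j k) (hA3 : ∀ y ∈ A, y ^ 3 = 1) {v : G}
    (hv : ∀ y ∈ A, v * y * v⁻¹ ∈ A) (hvab : v * (a * b) = a * b * v) {k : ℕ} (hk : v ^ 3 ^ k = 1) : v ∈ A := by
  have h1 := comm_of_norm hm H hca hA hv
  obtain ⟨ma, mb, mc⟩ := a_mem H hA
  have key : ∀ y : centralizer ({L.t} : Set G), (y : G) ∈ A → ∃ i j k : Fin 3,
      (⟨v, L.mem_iff.2 h1⟩ : centralizer ({L.t} : Set G)) * y * (⟨v, L.mem_iff.2 h1⟩ : centralizer ({L.t} : Set G))⁻¹ =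
        el a b c i j k := by
    intro y hy
    obtain ⟨i, j, k, h⟩ := (hA _).1 (hv y hy)
    refine ⟨i, j, k, Subtype.ext ?_⟩
    rw [coe_el H]
    exact h
  obtain ⟨i, j, l, h2⟩ := sq_of_norm hm H (v := ⟨v, L.mem_iff.2 h1⟩) (Subtype.ext (by
    show v * ((a : G) * b) = a * b * v
    exact hvab)) (key a ma) (key b mb) (key c mc)
  have hodd : Odd (3 ^ k) := Odd.pow (by decide)
  have hsq : v * v ∈ A := by
    rcases h2 with h2 | h2
    · rw [hA]
      refine ⟨i, j, l, ?_⟩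
      rw [← coe_el H, ← h2]
      rfl
    · exfalso
      have h3 : v * v = el (a : G) b c i j l * L.t := by
        have := congrArg Subtype.val h2
        rw [Subgroup.coe_mul, Subgroup.coe_mul, coe_el H, L.hz] at this
        exact this
      have hel : el (a : G) b c i j l ∈ A := (hA _).2 ⟨i, j, l, rfl⟩
      have h4 : (el (a : G) b c i j l * L.t) ^ (3 * 3 ^ k) = 1 := by
        have e1 : 2 * (3 * 3 ^ k) = 3 ^ k * 6 := by ring
        rw [← h3, ← pow_two, ← pow_mul, e1, pow_mul, hk, one_pow]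
      have hc : Commute (el (a : G) b c i j l) L.t := t_comm_of_mem hm H hA hel
      rw [hc.mul_pow, pow_mul, hA3 _ hel, one_pow, one_mul] at h4
      have h5 : Odd (3 * 3 ^ k) := Odd.mul (by decide) hodd
      obtain ⟨r, hr⟩ := h5
      rw [hr, pow_succ, pow_mul, pow_two, L.t_mul_t, one_pow, one_mul] at h4
      exact L.t_ne h4
  obtain ⟨r, hr⟩ := hodd
  have h3 : v = (v * v) ^ (r + 1) := by
    rw [← pow_two, ← pow_mul]
    have : 2 * (r + 1) = 3 ^ k + 1 := by omega
    rw [this, pow_succ, hk, one_mul]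
  rw [h3]
  exact pow_mem hsq _


/-- every `3`-subgroup of `C_G(ab)` is conjugate in `C_G(ab)` to a subgroup of `A` -/
theorem exists_conj_A [Finite G] (hca : ∀ v : G, v * a = a * v → v * L.t = L.t * v) {A : Subgroup G}
    (hA : ∀ y, y ∈ A ↔ ∃ i j k : Fin 3, y = el (a : G) b c i j k) (hAp : IsPGroup 3 A) (hA3 : ∀ y ∈ A, y ^ 3 = 1)
    {x : G} (hx : x * (a * b) = a * b * x) {k : ℕ} (hk : x ^ 3 ^ k = 1) :
    ∃ w : G, w * (a * b) = a * b * w ∧ w * x * w⁻¹ ∈ A := by
  have h3 : Fact (Nat.Prime 3) := ⟨by norm_num⟩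
  have e1 : (a : G) * b = b * a := congrArg Subtype.val (ab hm H)
  have e2 : (a : G) * c = c * a := congrArg Subtype.val (ac hm H)
  have e3 : (b : G) * c = c * b := congrArg Subtype.val (bc hm H)
  obtain ⟨w, hw, hw'⟩ := exists_conj_le (p := 3) (H := centralizer ({(a : G) * b} : Set G)) (P := A)
    (Q := zpowers x) (by
      intro y hy
      rw [mem_centralizer_singleton_iff]
      obtain ⟨i, j, k, rfl⟩ := (hA y).1 hy
      have c1 : Commute (a : G) b := e1
      have c2 : Commute (a : G) c := e2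
      have c3 : Commute (b : G) c := e3
      have d1 : Commute (a : G) (a * b) := (Commute.refl _).mul_right c1
      have d2 : Commute (b : G) (a * b) := c1.symm.mul_right (Commute.refl _)
      have d3 : Commute (c : G) (a * b) := c2.symm.mul_right c3.symm
      exact ((((d1.pow_left _).mul_left (d2.pow_left _)).mul_left (d3.pow_left _))).eq) hAp (by
      intro v hv hvk hvA
      rw [mem_centralizer_singleton_iff] at hv
      obtain ⟨k, hk⟩ := hvk
      exact mem_of_norm hm H hca hA hA3 hvA hv hk) (by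
      rw [zpowers_le, mem_centralizer_singleton_iff]
      exact hx) (by
      rintro ⟨y, l, rfl⟩
      refine ⟨k, Subtype.ext ?_⟩
      show (x ^ l) ^ 3 ^ k = 1
      rw [← zpow_natCast, ← zpow_mul, mul_comm, zpow_mul, zpow_natCast, hk, one_zpow])
  exact ⟨w, mem_centralizer_singleton_iff.1 hw, hw' x (mem_zpowers x)⟩

omit H in
omit hm in
/-- in a group `⟨ρ⟩` of order 3, elements of odd order normalising it centralise `ρ` -/
theorem comm_of_norm_zpowers {G : Type*} [Group G] {ρ v : G} (hρ : ρ ^ 3 = 1) (hv : v * ρ * v⁻¹ ∈ zpowers ρ)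
    {n : ℕ} (hn : Odd n) (hvn : v ^ n = 1) : v * ρ = ρ * v := by
  have h1 : v * ρ * v⁻¹ = ρ ∨ v * ρ * v⁻¹ = ρ⁻¹ ∨ ρ = 1 := by
    obtain ⟨k, hk⟩ := hv
    have hk' : ρ ^ k = v * ρ * v⁻¹ := hk
    have h3 : ρ ^ (3 : ℤ) = 1 := by exact_mod_cast hρ
    have h4 : ρ ^ k = ρ ^ (k % 3) := by
      conv_lhs => rw [← Int.emod_add_mul_ediv k 3, zpow_add, zpow_mul, h3, one_zpow, mul_one]
    have h5 : k % 3 = 0 ∨ k % 3 = 1 ∨ k % 3 = 2 := by omega
    rcases h5 with h5 | h5 | h5
    · right; right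
      rw [h4, h5, zpow_zero] at hk'
      calc ρ = v⁻¹ * (v * ρ * v⁻¹) * v := by group
        _ = 1 := by rw [← hk']; group
    · left
      rw [← hk', h4, h5, zpow_one]
    · right; left
      rw [← hk', h4, h5, eq_inv_iff_mul_eq_one]
      calc ρ ^ (2 : ℤ) * ρ = ρ ^ (3 : ℤ) := by group
        _ = 1 := h3
  rcases h1 with h1 | h1 | h1
  · rwa [mul_inv_eq_iff_eq_mul] at h1
  · -- `v` inverts `ρ`, `v^n = 1`, `n` odd
    have h2 : v * v * ρ * (v * v)⁻¹ = ρ := by
      calc v * v * ρ * (v * v)⁻¹ = v * (v * ρ * v⁻¹) * v⁻¹ := by group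
        _ = v * ρ⁻¹ * v⁻¹ := by rw [h1]
        _ = (v * ρ * v⁻¹)⁻¹ := by group
        _ = ρ := by rw [h1, inv_inv]
    rw [mul_inv_eq_iff_eq_mul] at h2
    obtain ⟨r, hr⟩ := hn
    have h3 : v = (v * v) ^ (r + 1) := by
      rw [← pow_two, ← pow_mul]
      have : 2 * (r + 1) = n + 1 := by omega
      rw [this, pow_succ, hvn, one_mul]
    have c : Commute (v * v) ρ := h2
    have := (c.pow_left (r + 1)).eq
    rw [← h3] at this
    exact this
  · rw [h1, mul_one, one_mul]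

theorem u_comm : (u : G) * L.t = L.t * u ∧ (u : G) * u = 1 ∧ (u : G) ≠ 1 ∧ (u : G) ≠ L.t := by
  have h1 := u_ne hm H
  refine ⟨comm_t u, congrArg Subtype.val (uu hm H), fun h => h1.1 (Subtype.ext h), fun h => h1.2 (Subtype.ext ?_)⟩
  rw [L.hz]
  exact h

/-- elements of `G` commuting with `t`, `u`, `ab` -/
theorem exists_of_comm' {h : G} (ht : h * L.t = L.t * h) (h1 : h * (a * b) = a * b * h) (h2 : h * u = u * h) :
    ∃ (i : Fin 3) (j e : Fin 2), h = ((a : G) * b) ^ (i : ℕ) * (u : G) ^ (j : ℕ) * L.t ^ (e : ℕ) := by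
  obtain ⟨i, j, e, h3⟩ := exists_of_comm hm H (h := ⟨h, L.mem_iff.2 ht⟩) (Subtype.ext h1) (Subtype.ext h2)
  refine ⟨i, j, e, ?_⟩
  have := congrArg Subtype.val h3
  simp only [Subgroup.coe_mul, Subgroup.coe_pow, L.hz] at this
  exact this

/-- the basic commutations with `ρ = ab` -/
theorem ρ_basic : (a : G) * b * L.t = L.t * (a * b) ∧ (a : G) * b * u = u * (a * b) ∧ ((a : G) * b) ^ 3 = 1 ∧
    (a : G) * b ≠ 1 ∧ (g : G) * (a * b) * (g : G)⁻¹ = ((a : G) * b)⁻¹ := by
  have e1 : (a : G) * b = b * a := congrArg Subtype.val (ab hm H)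
  have e4 : (a : G) ^ 3 = 1 := by have := congrArg Subtype.val H.a3; simpa using this
  have e5 : (b : G) ^ 3 = 1 := by have := congrArg Subtype.val H.b3; simpa using this
  have eua : (u : G) * a * (u : G)⁻¹ = b := congrArg Subtype.val (ua hm H)
  have eub : (u : G) * b * (u : G)⁻¹ = a := congrArg Subtype.val (ub hm H)
  have ega : (g : G) * a * (g : G)⁻¹ = (a : G)⁻¹ := congrArg Subtype.val (ga hm H)
  have egb : (g : G) * b * (g : G)⁻¹ = (b : G)⁻¹ := congrArg Subtype.val (gb hm H)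
  refine ⟨?_, ?_, ?_, ?_, ?_⟩
  · exact ((show Commute (a : G) L.t from comm_t a).mul_left (show Commute (b : G) L.t from comm_t b)).eq
  · have : (u : G) * (a * b) * (u : G)⁻¹ = a * b := by
      calc (u : G) * (a * b) * (u : G)⁻¹ = (u * a * (u : G)⁻¹) * (u * b * (u : G)⁻¹) := by group
        _ = a * b := by rw [eua, eub, e1]
    rw [mul_inv_eq_iff_eq_mul] at this
    exact this.symm
  · rw [(show Commute (a : G) b from e1).mul_pow, e4, e5, one_mul]
  · intro h
    have h1 : a * b = 1 := Subtype.ext h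
    have h2 := val0 hm 1 1 (by decide) (by decide)
    apply h2.1
    rw [← H.πa, ← H.πb, ← map_mul, h1, map_one]
    rfl
  · calc (g : G) * (a * b) * (g : G)⁻¹ = (g * a * (g : G)⁻¹) * (g * b * (g : G)⁻¹) := by group
      _ = ((a : G) * b)⁻¹ := by rw [ega, egb, e1, mul_inv_rev]


/-- an element inducing a 3-cycle on the four-group `⟨t, u⟩` and commuting with `ρ` -/
theorem exists_x [Finite G] : ∃ x : G, x * L.t * x⁻¹ = u * L.t ∧ x * u * x⁻¹ = L.t ∧ x * (a * b) = a * b * x ∧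
    x ^ 9 = 1 := by
  have h3 : Fact (Nat.Prime 3) := ⟨by norm_num⟩
  obtain ⟨hut, huu, hu1, hutne⟩ := u_comm hm H
  obtain ⟨hρt, hρu, hρ3, hρ1, hρg⟩ := ρ_basic hm H
  have htt := L.t_mul_t
  have hti := L.t_inv
  have hgu : (g : G) * u = u * g * L.t := by
    have := congrArg Subtype.val (gu hm H)
    simp only [Subgroup.coe_mul, L.hz] at this
    exact this
  have hgu' : (g : G) * u * (g : G)⁻¹ = u * L.t := by
    rw [mul_inv_eq_iff_eq_mul, hgu, mul_assoc, comm_t g, ← mul_assoc]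
  have hgt : (g : G) * L.t * (g : G)⁻¹ = L.t := by rw [mul_inv_eq_iff_eq_mul, comm_t g]
  -- an element swapping `t` and `u t`
  obtain ⟨L', hL'⟩ := L.exists_rebase huu hu1
  have h1 := L'.conj_in_centralizer (r := L.t) (s := u * L.t) (by omega) (by rw [hL', hut]) (by
      rw [hL', mul_assoc, ← hut, ← mul_assoc]) htt L.t_ne (by rw [hL']; exact fun h => hutne h.symm)
    (by
      calc (u : G) * L.t * (u * L.t) = u * (L.t * u) * L.t := by group
        _ = (u * u) * (L.t * L.t) := by rw [← hut]; group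
        _ = 1 := by rw [huu, htt, one_mul])
    (by
      intro h
      apply hutne
      rw [mul_eq_one_iff_eq_inv, hti] at h
      exact h)
    (by
      rw [hL']
      intro h
      exact L.t_ne (mul_eq_left.mp h))
  obtain ⟨h, hhu, hht⟩ := h1
  rw [hL'] at hhu
  have hhut : h * (u * L.t) * h⁻¹ = L.t := by
    calc h * (u * L.t) * h⁻¹ = h * u * h⁻¹ * (h * L.t * h⁻¹) := by group
      _ = u * h * h⁻¹ * (u * L.t) := by rw [hhu, hht]
      _ = (u * u) * L.t := by group
      _ = L.t := by rw [huu, one_mul]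
  have hhu' : h * u * h⁻¹ = u := by rw [mul_inv_eq_iff_eq_mul, hhu]
  set y : G := g * h with hy
  have hyt : y * L.t * y⁻¹ = u := by
    calc y * L.t * y⁻¹ = g * (h * L.t * h⁻¹) * (g : G)⁻¹ := by rw [hy]; group
      _ = (g * u * (g : G)⁻¹) * (g * L.t * (g : G)⁻¹) := by rw [hht]; group
      _ = u * (L.t * L.t) := by rw [hgu', hgt]; group
      _ = u := by rw [htt, mul_one]
  have hyu : y * u * y⁻¹ = u * L.t := by
    calc y * u * y⁻¹ = g * (h * u * h⁻¹) * (g : G)⁻¹ := by rw [hy]; group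
      _ = u * L.t := by rw [hhu', hgu']
  -- Sylow 3 in `D = C(t) ∩ C(u)`
  set D : Subgroup G := centralizer {L.t} ⊓ centralizer {(u : G)} with hD
  have hmD : ∀ v, v ∈ D ↔ v * L.t = L.t * v ∧ v * u = u * v := fun v => by
    rw [hD, mem_inf, mem_centralizer_singleton_iff, mem_centralizer_singleton_iff]
  have hDρ : (a : G) * b ∈ D := (hmD _).2 ⟨hρt, hρu⟩
  obtain ⟨d, hd, hd'⟩ := exists_conj_le (p := 3) (H := D) (P := zpowers ((a : G) * b))
    (Q := zpowers (y * (a * b) * y⁻¹)) (by rw [zpowers_le]; exact hDρ) (by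
      rintro ⟨v, l, rfl⟩
      refine ⟨1, Subtype.ext ?_⟩
      show (((a : G) * b) ^ l) ^ 3 ^ 1 = 1
      rw [pow_one, ← zpow_natCast, ← zpow_mul, mul_comm, zpow_mul, zpow_natCast, hρ3, one_zpow]) (by
      rintro v hv ⟨k, hk⟩ hn
      have hodd : Odd (3 ^ k) := Odd.pow (by decide)
      have hc := comm_of_norm_zpowers hρ3 (hn _ (mem_zpowers _)) hodd hk
      obtain ⟨hvt, hvu⟩ := (hmD v).1 hv
      obtain ⟨i, j, e, h4⟩ := exists_of_comm' hm H hvt hc hvu
      -- `v = ρ^i u^j t^e`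
      have c1 : Commute ((a : G) * b) u := hρu
      have c2 : Commute ((a : G) * b) L.t := hρt
      have c3 : Commute (u : G) L.t := hut
      have h5 : v * v = ((a : G) * b) ^ (2 * (i : ℕ)) := by
        have e1 : ((u : G) ^ (j : ℕ) * L.t ^ (e : ℕ)) * ((u : G) ^ (j : ℕ) * L.t ^ (e : ℕ)) = 1 := by
          rw [← pow_two, (c3.pow_pow (j : ℕ) (e : ℕ)).mul_pow, ← pow_mul, ← pow_mul, mul_comm (j : ℕ), mul_comm (e : ℕ),
            pow_mul, pow_mul, pow_two, pow_two, huu, htt, one_pow, one_pow, one_mul]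
        have e2 : Commute (((a : G) * b) ^ (i : ℕ)) ((u : G) ^ (j : ℕ) * L.t ^ (e : ℕ)) :=
          (c1.pow_pow _ _).mul_right (c2.pow_pow _ _)
        rw [mul_assoc] at h4
        rw [h4, ← pow_two, e2.mul_pow, pow_two ((u : G) ^ (j : ℕ) * L.t ^ (e : ℕ)), e1, mul_one, ← pow_mul, mul_comm]
      obtain ⟨r, hr⟩ := hodd
      have h6 : v = (v * v) ^ (r + 1) := by
        rw [← pow_two, ← pow_mul]
        have : 2 * (r + 1) = 3 ^ k + 1 := by omega
        rw [this, pow_succ, hk, one_mul]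
      rw [h6, h5]
      exact pow_mem (pow_mem (mem_zpowers _) _) _) (by
      rw [zpowers_le, hmD]
      -- `y⁻¹` acts on the four-group
      have i1 : y⁻¹ * u * y = L.t := by rw [← hyt]; group
      have i2 : y⁻¹ * (u * L.t) * y = u := by rw [← hyu]; group
      have i3 : y⁻¹ * L.t * y = u * L.t := by
        calc y⁻¹ * L.t * y = y⁻¹ * (u * (u * L.t)) * y := by rw [← mul_assoc (u : G) u, huu, one_mul]
          _ = (y⁻¹ * u * y) * (y⁻¹ * (u * L.t) * y) := by group
          _ = u * L.t := by rw [i1, i2, hut]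
      constructor
      · have : (a : G) * b * (y⁻¹ * L.t * y) = y⁻¹ * L.t * y * (a * b) := by
          rw [i3]
          exact ((show Commute ((a : G) * b) u from hρu).mul_right (show Commute ((a : G) * b) L.t from hρt)).eq
        calc y * (a * b) * y⁻¹ * L.t = y * ((a : G) * b * (y⁻¹ * L.t * y)) * y⁻¹ := by group
          _ = y * (y⁻¹ * L.t * y * (a * b)) * y⁻¹ := by rw [this]
          _ = L.t * (y * (a * b) * y⁻¹) := by group
      · have : (a : G) * b * (y⁻¹ * u * y) = y⁻¹ * u * y * (a * b) := by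
          rw [i1]
          exact hρt
        calc y * (a * b) * y⁻¹ * u = y * ((a : G) * b * (y⁻¹ * u * y)) * y⁻¹ := by group
          _ = y * (y⁻¹ * u * y * (a * b)) * y⁻¹ := by rw [this]
          _ = u * (y * (a * b) * y⁻¹) := by group) (by
      rintro ⟨v, l, rfl⟩
      refine ⟨1, Subtype.ext ?_⟩
      show ((y * (a * b) * y⁻¹) ^ l) ^ 3 ^ 1 = 1
      have e1 : (y * (a * b) * y⁻¹) ^ 3 = 1 := by rw [conj_pow, hρ3, mul_one, mul_inv_cancel]
      rw [pow_one, ← zpow_natCast, ← zpow_mul, mul_comm, zpow_mul, zpow_natCast, e1, one_zpow])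
  obtain ⟨hdt, hdu⟩ := (hmD d).1 hd
  set n : G := d * y with hn
  have hnt : n * L.t * n⁻¹ = u := by
    calc n * L.t * n⁻¹ = d * (y * L.t * y⁻¹) * d⁻¹ := by rw [hn]; group
      _ = u := by rw [hyt, hdu, mul_inv_cancel_right]
  have hnu : n * u * n⁻¹ = u * L.t := by
    calc n * u * n⁻¹ = d * (y * u * y⁻¹) * d⁻¹ := by rw [hn]; group
      _ = (d * u) * L.t * d⁻¹ := by rw [hyu]; group
      _ = u * (d * L.t) * d⁻¹ := by rw [hdu]; group
      _ = u * L.t := by rw [hdt]; group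
  have hnρ : n * (a * b) * n⁻¹ ∈ zpowers ((a : G) * b) := by
    have := hd' _ (mem_zpowers _)
    have e1 : n * (a * b) * n⁻¹ = d * (y * (a * b) * y⁻¹) * d⁻¹ := by rw [hn]; group
    rw [e1]; exact this
  set x : G := n * n with hx
  have hxt : x * L.t * x⁻¹ = u * L.t := by
    calc x * L.t * x⁻¹ = n * (n * L.t * n⁻¹) * n⁻¹ := by rw [hx]; group
      _ = u * L.t := by rw [hnt, hnu]
  have hxu : x * u * x⁻¹ = L.t := by
    calc x * u * x⁻¹ = n * (n * u * n⁻¹) * n⁻¹ := by rw [hx]; group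
      _ = n * (u * L.t) * n⁻¹ := by rw [hnu]
      _ = (n * u * n⁻¹) * (n * L.t * n⁻¹) := by group
      _ = u * L.t * u := by rw [hnt, hnu]
      _ = L.t := by rw [hut, mul_assoc, huu, mul_one]
  have hxρ : x * (a * b) = a * b * x := by
    -- `n ρ n⁻¹ = ρ^{±1}`
    obtain ⟨l, hl⟩ := hnρ
    have hl' : ((a : G) * b) ^ l = n * (a * b) * n⁻¹ := hl
    have h31 : ((a : G) * b) ^ (3 : ℤ) = 1 := by exact_mod_cast hρ3
    have h4 : ((a : G) * b) ^ l = ((a : G) * b) ^ (l % 3) := by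
      conv_lhs => rw [← Int.emod_add_mul_ediv l 3, zpow_add, zpow_mul, h31, one_zpow, mul_one]
    have h5 : l % 3 = 0 ∨ l % 3 = 1 ∨ l % 3 = 2 := by omega
    have hx1 : x * (a * b) * x⁻¹ = n * (n * (a * b) * n⁻¹) * n⁻¹ := by rw [hx]; group
    rw [← mul_inv_eq_iff_eq_mul, hx1, ← hl', ← conj_zpow, ← hl', ← zpow_mul]
    rcases h5 with h5 | h5 | h5
    · exfalso
      apply hρ1
      rw [h4, h5, zpow_zero] at hl'
      calc (a : G) * b = n⁻¹ * (n * (a * b) * n⁻¹) * n := by group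
        _ = 1 := by rw [← hl']; group
    · have : ((a : G) * b) ^ (l * l) = ((a : G) * b) ^ ((l * l) % 3) := by
        conv_lhs => rw [← Int.emod_add_mul_ediv (l * l) 3, zpow_add, zpow_mul, h31, one_zpow, mul_one]
      rw [this, Int.mul_emod, h5]
      norm_num
    · have : ((a : G) * b) ^ (l * l) = ((a : G) * b) ^ ((l * l) % 3) := by
        conv_lhs => rw [← Int.emod_add_mul_ediv (l * l) 3, zpow_add, zpow_mul, h31, one_zpow, mul_one]
      rw [this, Int.mul_emod, h5]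
      norm_num
  have hxut : x * (u * L.t) * x⁻¹ = u := by
    calc x * (u * L.t) * x⁻¹ = (x * u * x⁻¹) * (x * L.t * x⁻¹) := by group
      _ = L.t * (u * L.t) := by rw [hxu, hxt]
      _ = L.t * (L.t * u) := by rw [hut]
      _ = u := by rw [← mul_assoc, htt, one_mul]
  refine ⟨x, hxt, hxu, hxρ, ?_⟩
  -- `x³` commutes with `t`, `u`, `ρ`
  have h3t : x ^ 3 * L.t = L.t * x ^ 3 := by
    rw [← mul_inv_eq_iff_eq_mul]
    calc x ^ 3 * L.t * (x ^ 3)⁻¹ = x * (x * (x * L.t * x⁻¹) * x⁻¹) * x⁻¹ := by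
          rw [pow_succ, pow_two]; group
      _ = L.t := by rw [hxt, hxut, hxu]
  have h3u : x ^ 3 * u = u * x ^ 3 := by
    rw [← mul_inv_eq_iff_eq_mul]
    calc x ^ 3 * u * (x ^ 3)⁻¹ = x * (x * (x * u * x⁻¹) * x⁻¹) * x⁻¹ := by
          rw [pow_succ, pow_two]; group
      _ = u := by rw [hxu, hxt, hxut]
  have h3ρ : x ^ 3 * (a * b) = a * b * x ^ 3 := ((show Commute x (a * b) from hxρ).pow_left 3).eq
  obtain ⟨i, j, e, h4⟩ := exists_of_comm' hm H h3t h3ρ h3u
  have hxρi : x * ((a : G) * b) ^ (i : ℕ) = ((a : G) * b) ^ (i : ℕ) * x :=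
    ((show Commute x (a * b) from hxρ).pow_right _).eq
  have h5 : x * ((u : G) ^ (j : ℕ) * L.t ^ (e : ℕ)) * x⁻¹ = (u : G) ^ (j : ℕ) * L.t ^ (e : ℕ) := by
    have e1 : (u : G) ^ (j : ℕ) * L.t ^ (e : ℕ) = (((a : G) * b) ^ (i : ℕ))⁻¹ * x ^ 3 := by
      rw [h4]; group
    have c1 : Commute x ((((a : G) * b) ^ (i : ℕ))⁻¹ * x ^ 3) :=
      (show Commute x (((a : G) * b) ^ (i : ℕ)) from hxρi).inv_right.mul_right ((Commute.refl x).pow_right 3)
    rw [e1, mul_inv_eq_iff_eq_mul]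
    exact c1.eq
  have hj0 : x ^ 3 = ((a : G) * b) ^ (i : ℕ) := by
    have hall : ∀ j : Fin 2, j = 0 ∨ j = 1 := by decide
    rcases hall j with rfl | rfl <;> rcases hall e with rfl | rfl
    · rw [h4]; simp
    · exfalso
      simp only [Fin.val_zero, pow_zero, one_mul, Fin.val_one, pow_one] at h5
      rw [hxt] at h5
      exact hu1 (mul_eq_right.mp h5)
    · exfalso
      simp only [Fin.val_zero, pow_zero, mul_one, Fin.val_one, pow_one] at h5
      rw [hxu] at h5
      exact hutne h5.symm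
    · exfalso
      simp only [Fin.val_one, pow_one] at h5
      rw [hxut] at h5
      exact L.t_ne (mul_eq_left.mp h5.symm)
  have h6 : x ^ 9 = (x ^ 3) ^ 3 := by rw [← pow_mul]
  rw [h6, hj0, ← pow_mul, mul_comm, pow_mul, hρ3, one_pow]

end Cfsg.Agent.SporRec.NineTwo.Main
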