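import Cfsg.Agent.SporRec.TwoAn

/-!
# Permutations of nine or ten points used for the groups with involution centraliser `2.A_9`, `2.A_10`
-/

set_option autoImplicit false

namespace Cfsg.Agent.SporRec.NineTwo.Perms

open Equiv

/-- `(0 1 2)` -/
def pa (m : ℕ) : Perm (Fin (m + 9)) := swap 0 1 * swap 1 2
/-- `(3 4 5)` -/
def pb (m : ℕ) : Perm (Fin (m + 9)) := swap 3 4 * swap 4 5
/-- `(6 7 8)` -/
def pc (m : ℕ) : Perm (Fin (m + 9)) := swap 6 7 * swap 7 8
/-- `(0 3)(1 4)(2 5)(6 7)` -/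
def pu (m : ℕ) : Perm (Fin (m + 9)) := swap 0 3 * swap 1 4 * (swap 2 5 * swap 6 7)
/-- `(0 1)(3 4)` -/
def pg (m : ℕ) : Perm (Fin (m + 9)) := swap 0 1 * swap 3 4
/-- `(1 2)(4 5)(7 8)` -/
def pt (m : ℕ) : Perm (Fin (m + 9)) := swap 1 2 * swap 4 5 * swap 7 8

/-- `a^i b^j c^k` -/
def pw (m : ℕ) (i j k : Fin 3) : Perm (Fin (m + 9)) := pa m ^ (i : ℕ) * pb m ^ (j : ℕ) * pc m ^ (k : ℕ)

variable {m : ℕ} (hm : m < 2)

include hm

theorem pa_pb : pa m * pb m = pb m * pa m := by interval_cases m <;> decide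
theorem pa_pc : pa m * pc m = pc m * pa m := by interval_cases m <;> decide
theorem pb_pc : pb m * pc m = pc m * pb m := by interval_cases m <;> decide
theorem pa_pow : pa m ^ 3 = 1 := by interval_cases m <;> decide
theorem pb_pow : pb m ^ 3 = 1 := by interval_cases m <;> decide
theorem pc_pow : pc m ^ 3 = 1 := by interval_cases m <;> decide
theorem pu_pa : pu m * pa m * (pu m)⁻¹ = pb m := by interval_cases m <;> decide
theorem pu_pb : pu m * pb m * (pu m)⁻¹ = pa m := by interval_cases m <;> decide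
theorem pg_pa : pg m * pa m * (pg m)⁻¹ = (pa m)⁻¹ := by interval_cases m <;> decide
theorem pg_pb : pg m * pb m * (pg m)⁻¹ = (pb m)⁻¹ := by interval_cases m <;> decide
theorem pu_sq : pu m * pu m = 1 := by interval_cases m <;> decide
theorem card_pu : (pu m).support.card = 8 := by interval_cases m <;> decide
theorem card_pa : (pa m).support.card = 3 := by interval_cases m <;> decide


theorem pw_card (i j k : Fin 3) : (pw m i j k).support.card =
    3 * ((if i = 0 then 0 else 1) + (if j = 0 then 0 else 1) + (if k = 0 then 0 else 1)) := by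
  interval_cases m <;> revert i j k <;> decide +kernel

theorem pw_comm_a (i j k : Fin 3) : pw m i j k * pa m = pa m * pw m i j k := by
  interval_cases m <;> revert i j k <;> decide +kernel

theorem pw_comm_b (i j k : Fin 3) : pw m i j k * pb m = pb m * pw m i j k := by
  interval_cases m <;> revert i j k <;> decide +kernel

theorem pw_comm_c (i j k : Fin 3) : pw m i j k * pc m = pc m * pw m i j k := by
  interval_cases m <;> revert i j k <;> decide +kernel

theorem pw_sq_ne (i j k : Fin 3) (h : pw m i j k * pw m i j k = 1) : pw m i j k = 1 := by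
  interval_cases m <;> revert i j k <;> decide +kernel

theorem sign_pt_mul_pw (i j k : Fin 3) : Perm.sign (pt m * pw m i j k) = -1 := by
  interval_cases m <;> revert i j k <;> decide +kernel

theorem mem_012 (s k : Fin 3) (hs : s ≠ 0) (hk : k ≠ 0) (x : Fin (m + 9)) (h1 : (pa m * pb m) x ≠ x)
    (h2 : pw m s 0 k x ≠ x) : ∃ i : Fin 3, pw m i 0 0 0 = x := by
  interval_cases m <;> revert s k x <;> decide +kernel

theorem mem_345 (s k : Fin 3) (hs : s ≠ 0) (hk : k ≠ 0) (x : Fin (m + 9)) (h1 : (pa m * pb m) x ≠ x)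
    (h2 : pw m s 0 k x = x) : ∃ i : Fin 3, pw m 0 i 0 3 = x := by
  interval_cases m <;> revert s k x <;> decide +kernel

theorem mem_678 (s k : Fin 3) (hs : s ≠ 0) (hk : k ≠ 0) (x : Fin (m + 9)) (h1 : (pa m * pb m) x = x)
    (h2 : pw m s 0 k x ≠ x) : ∃ i : Fin 3, pw m 0 0 i 6 = x := by
  interval_cases m <;> revert s k x <;> decide +kernel

theorem fix_unique (s k : Fin 3) (hs : s ≠ 0) (hk : k ≠ 0) (x y : Fin (m + 9)) (h1 : (pa m * pb m) x = x)
    (h2 : pw m s 0 k x = x) (h3 : (pa m * pb m) y = y) (h4 : pw m s 0 k y = y) : x = y := by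
  interval_cases m <;> revert s k x y <;> decide +kernel

theorem pw_val_0 (i j k : Fin 3) : pw m i j k 0 = pw m i 0 0 0 := by
  interval_cases m <;> revert i j k <;> decide +kernel
theorem pw_val_3 (i j k : Fin 3) : pw m i j k 3 = pw m 0 j 0 3 := by
  interval_cases m <;> revert i j k <;> decide +kernel
theorem pw_val_6 (i j k : Fin 3) : pw m i j k 6 = pw m 0 0 k 6 := by
  interval_cases m <;> revert i j k <;> decide +kernel

/-- all points are reached from `0`, `3`, `6` -/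
theorem reach (s k : Fin 3) (hs : s ≠ 0) (hk : k ≠ 0) (x : Fin (m + 9)) :
    ((pa m * pb m) x = x ∧ pw m s 0 k x = x) ∨ (∃ i : Fin 3, ((pa m * pb m) ^ (i : ℕ)) 0 = x) ∨
      (∃ i : Fin 3, ((pa m * pb m) ^ (i : ℕ)) 3 = x) ∨ (∃ i : Fin 3, (pw m s 0 k ^ (i : ℕ)) 6 = x) := by
  interval_cases m <;> revert s k x <;> decide +kernel


omit hm in
theorem pow_apply_of_comm {α : Type*} {σ P : Perm α} (h : σ * P = P * σ) {x : α} (hx : σ x = x) (i : ℕ) :
    σ ((P ^ i) x) = (P ^ i) x := by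
  have h1 : σ * P ^ i = P ^ i * σ := ((show Commute σ P from h).pow_right i).eq
  have h2 := congrArg (fun f : Perm α => f x) h1
  simp only [Perm.mul_apply] at h2
  rw [h2, hx]

omit hm in
theorem apply_comm {α : Type*} {σ P : Perm α} (h : σ * P = P * σ) (x : α) : σ (P x) = P (σ x) :=
  congrArg (fun f : Perm α => f x) h

omit hm in
theorem moved_iff {α : Type*} {σ P : Perm α} (h : σ * P = P * σ) (x : α) : P (σ x) = σ x ↔ P x = x := by
  rw [← apply_comm h x, EmbeddingLike.apply_eq_iff_eq]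

omit hm in
theorem inv_mul_apply_of_eq {α : Type*} {σ τ : Perm α} {x : α} (h : τ x = σ x) : (τ⁻¹ * σ) x = x := by
  rw [Perm.mul_apply, ← h, Perm.inv_eq_iff_eq]

omit hm in
theorem inv_mul_comm {α : Type*} {σ τ P : Perm α} (c1 : τ * P = P * τ) (h1 : σ * P = P * σ) :
    (τ⁻¹ * σ) * P = P * (τ⁻¹ * σ) :=
  ((show Commute τ P from c1).inv_left.mul_left (show Commute σ P from h1)).eq

theorem val0 : ∀ s k : Fin 3, s ≠ 0 → k ≠ 0 → (pa m * pb m) 0 ≠ 0 ∧ pw m s 0 k 0 ≠ 0 := by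
  interval_cases m <;> decide +kernel
theorem val3 : ∀ s k : Fin 3, s ≠ 0 → k ≠ 0 → (pa m * pb m) 3 ≠ 3 ∧ pw m s 0 k 3 = 3 := by
  interval_cases m <;> decide +kernel
theorem val6 : ∀ s k : Fin 3, s ≠ 0 → k ≠ 0 → (pa m * pb m) 6 = 6 ∧ pw m s 0 k 6 ≠ 6 := by
  interval_cases m <;> decide +kernel
theorem pw_comm_pw : ∀ i j l s k : Fin 3, pw m i j l * pw m s 0 k = pw m s 0 k * pw m i j l := by
  interval_cases m <;> decide +kernel
theorem pw_comm_ab : ∀ i j l : Fin 3, pw m i j l * (pa m * pb m) = pa m * pb m * pw m i j l := by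
  interval_cases m <;> decide +kernel

theorem exists_pw {σ : Perm (Fin (m + 9))} {s k : Fin 3} (hs : s ≠ 0) (hk : k ≠ 0)
    (h1 : σ * (pa m * pb m) = pa m * pb m * σ) (h2 : σ * pw m s 0 k = pw m s 0 k * σ) :
    ∃ i j l : Fin 3, σ = pw m i j l := by
  have v0 := val0 hm s k hs hk
  have v3 := val3 hm s k hs hk
  have v6 := val6 hm s k hs hk
  obtain ⟨i, hi⟩ := mem_012 hm s k hs hk (σ 0) (fun h => v0.1 ((moved_iff h1 0).1 h))
    (fun h => v0.2 ((moved_iff h2 0).1 h))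
  obtain ⟨j, hj⟩ := mem_345 hm s k hs hk (σ 3) (fun h => v3.1 ((moved_iff h1 3).1 h)) ((moved_iff h2 3).2 v3.2)
  obtain ⟨l, hl⟩ := mem_678 hm s k hs hk (σ 6) ((moved_iff h1 6).2 v6.1) (fun h => v6.2 ((moved_iff h2 6).1 h))
  refine ⟨i, j, l, ?_⟩
  set τ := (pw m i j l)⁻¹ * σ with hτ
  have t1 : τ * (pa m * pb m) = pa m * pb m * τ := inv_mul_comm (pw_comm_ab hm i j l) h1
  have t2 : τ * pw m s 0 k = pw m s 0 k * τ := inv_mul_comm (pw_comm_pw hm i j l s k) h2
  have f0 : τ 0 = 0 := inv_mul_apply_of_eq ((pw_val_0 hm i j l).trans hi)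
  have f3 : τ 3 = 3 := inv_mul_apply_of_eq ((pw_val_3 hm i j l).trans hj)
  have f6 : τ 6 = 6 := inv_mul_apply_of_eq ((pw_val_6 hm i j l).trans hl)
  have : τ = 1 := by
    ext x : 1
    rw [Perm.one_apply]
    rcases reach hm s k hs hk x with ⟨h3, h4⟩ | ⟨e, rfl⟩ | ⟨e, rfl⟩ | ⟨e, rfl⟩
    · exact fix_unique hm s k hs hk _ _ ((moved_iff t1 x).2 h3) ((moved_iff t2 x).2 h4) h3 h4
    · exact pow_apply_of_comm t1 f0 _
    · exact pow_apply_of_comm t1 f3 _
    · exact pow_apply_of_comm t2 f6 _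
  rw [hτ, inv_mul_eq_one] at this
  exact this.symm

/-- `(6 7)(8 9)` on ten points -/
def ph (m : ℕ) (e f : Fin 2) : Perm (Fin (m + 9)) := swap 6 7 ^ (e : ℕ) * swap 8 (Fin.last (m + 8)) ^ (f : ℕ)

/-- `(ab)^i u^j` -/
def pv (m : ℕ) (i : Fin 3) (j : Fin 2) : Perm (Fin (m + 9)) := (pa m * pb m) ^ (i : ℕ) * pu m ^ (j : ℕ)

theorem pv_comm_ab : ∀ (i : Fin 3) (j : Fin 2), pv m i j * (pa m * pb m) = pa m * pb m * pv m i j := by
  interval_cases m <;> decide +kernel
theorem pv_comm_u : ∀ (i : Fin 3) (j : Fin 2), pv m i j * pu m = pu m * pv m i j := by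
  interval_cases m <;> decide +kernel
theorem sign_pv : ∀ (i : Fin 3) (j : Fin 2), Perm.sign (pv m i j) = 1 := by
  interval_cases m <;> decide +kernel
theorem uval0 : pu m 0 = 3 ∧ (pa m * pb m) 0 ≠ 0 := by interval_cases m <;> decide +kernel
theorem uval6 : (pu m 6 ≠ 6 ∧ (pa m * pb m) 6 = 6) ∧ pu m 6 = 7 := by interval_cases m <;> decide +kernel
theorem uval8 : pu m 8 = 8 ∧ (pa m * pb m) 8 = 8 := by interval_cases m <;> decide +kernel
theorem uval9 : pu m (Fin.last (m + 8)) = Fin.last (m + 8) ∧ (pa m * pb m) (Fin.last (m + 8)) = Fin.last (m + 8) := by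
  interval_cases m <;> decide +kernel
theorem exists_pv_val : ∀ x : Fin (m + 9), (pa m * pb m) x ≠ x → ∃ (i : Fin 3) (j : Fin 2), pv m i j 0 = x := by
  interval_cases m <;> decide +kernel
theorem mem_67 : ∀ x : Fin (m + 9), (pa m * pb m) x = x → pu m x ≠ x → ∃ e : Fin 2, x = ph m e 0 6 := by
  interval_cases m <;> decide +kernel
theorem mem_89 : ∀ x : Fin (m + 9), (pa m * pb m) x = x → pu m x = x → ∃ f : Fin 2, x = ph m 0 f 8 := by
  interval_cases m <;> decide +kernel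
theorem reach2 : ∀ x : Fin (m + 9), (∃ i : Fin 3, ((pa m * pb m) ^ (i : ℕ)) 0 = x) ∨
    (∃ i : Fin 3, ((pa m * pb m) ^ (i : ℕ)) 3 = x) ∨ x = 6 ∨ x = 7 ∨ x = 8 ∨ x = Fin.last (m + 8) := by
  interval_cases m <;> decide +kernel
theorem ph_val : ∀ (e f : Fin 2), (∀ l : Fin 3, ph m e f (((pa m * pb m) ^ (l : ℕ)) 0) = ((pa m * pb m) ^ (l : ℕ)) 0) ∧
    (∀ l : Fin 3, ph m e f (((pa m * pb m) ^ (l : ℕ)) 3) = ((pa m * pb m) ^ (l : ℕ)) 3) ∧
    ph m e f 6 = ph m e 0 6 ∧ ph m e f 7 = pu m (ph m e 0 6) ∧ ph m e f 8 = ph m 0 f 8 := by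
  interval_cases m <;> decide +kernel
theorem ph_last : ∀ (e f : Fin 2) (y : Fin (m + 9)), (∃ f' : Fin 2, y = ph m 0 f' 8) →
    ((8 : Fin (m + 9)) = Fin.last (m + 8) ∨ y ≠ ph m 0 f 8) → (m = 0 → y = 8) → ph m e f (Fin.last (m + 8)) = y := by
  interval_cases m <;> decide +kernel
theorem ph_sign : ∀ (e f : Fin 2), Perm.sign (ph m e f) = 1 → ph m e f = 1 ∨ m = 1 ∧ ph m e f = ph m 1 1 := by
  interval_cases m <;> decide +kernel

theorem exists_pv {σ : Perm (Fin (m + 9))} (h1 : σ * (pa m * pb m) = pa m * pb m * σ)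
    (h2 : σ * pu m = pu m * σ) (hsign : Perm.sign σ = 1) :
    ∃ (i : Fin 3) (j : Fin 2), σ = pv m i j ∨ (m = 1 ∧ σ = pv m i j * ph m 1 1) := by
  have v0 := uval0 hm
  obtain ⟨i, j, hij⟩ := exists_pv_val hm (σ 0) (fun h => v0.2 ((moved_iff h1 0).1 h))
  set τ := (pv m i j)⁻¹ * σ with hτ
  have t1 : τ * (pa m * pb m) = pa m * pb m * τ := inv_mul_comm (pv_comm_ab hm i j) h1
  have t2 : τ * pu m = pu m * τ := inv_mul_comm (pv_comm_u hm i j) h2
  have f0 : τ 0 = 0 := inv_mul_apply_of_eq hij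
  have f3 : τ 3 = 3 := by rw [← v0.1, apply_comm t2, f0]
  have v6 := uval6 hm
  have v8 := uval8 hm
  have v9 := uval9 hm
  obtain ⟨e, f6⟩ := mem_67 hm (τ 6) ((moved_iff t1 6).2 v6.1.2) (fun h => v6.1.1 ((moved_iff t2 6).1 h))
  have f7 : τ 7 = pu m (τ 6) := by rw [← v6.2, apply_comm t2]
  obtain ⟨f, f8⟩ := mem_89 hm (τ 8) ((moved_iff t1 8).2 v8.2) ((moved_iff t2 8).2 v8.1)
  have f9 := mem_89 hm (τ (Fin.last (m + 8))) ((moved_iff t1 _).2 v9.2) ((moved_iff t2 _).2 v9.1)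
  have hef : τ = ph m e f := by
    have hv := ph_val hm e f
    ext x : 1
    rcases reach2 hm x with ⟨l, rfl⟩ | ⟨l, rfl⟩ | rfl | rfl | rfl | rfl
    · rw [pow_apply_of_comm t1 f0, hv.1 l]
    · rw [pow_apply_of_comm t1 f3, hv.2.1 l]
    · rw [f6, hv.2.2.1]
    · rw [f7, f6, hv.2.2.2.1]
    · rw [f8, hv.2.2.2.2]
    · refine (ph_last hm e f _ f9 ?_ ?_).symm
      · by_cases h : (8 : Fin (m + 9)) = Fin.last (m + 8)
        · exact Or.inl h
        · right
          rw [← f8]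
          intro h'
          exact h (τ.injective h').symm
      · intro h0
        subst h0
        obtain ⟨f', hf'⟩ := f9
        rw [hf']
        clear * -
        revert f'
        decide +kernel
  have hs2 : Perm.sign (ph m e f) = 1 := by
    rw [← hef, hτ, map_mul, map_inv, sign_pv hm, hsign]; rfl
  have hσ : σ = pv m i j * ph m e f := by rw [← hef, hτ, mul_inv_cancel_left]
  refine ⟨i, j, ?_⟩
  rcases ph_sign hm e f hs2 with h | ⟨h3, h4⟩
  · left; rw [hσ, h, mul_one]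
  · right; exact ⟨h3, by rw [hσ, h4]⟩

end Cfsg.Agent.SporRec.NineTwo.Perms
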